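import Cfsg.Agent.AlphaRho.SquareIso
import Cfsg.Agent.SUThreeSylowAut.Existence
import Cfsg.Agent.LocalB.SixtyFourModels
import Cfsg.Agent.Classical.ThreeDimSylow

/-!
The Sylow 2-subgroups of `PSL₃(2ⁿ)` and `PSU₃(2ⁿ)` as extensions given by quadratic forms.
-/

set_option autoImplicit false
set_option linter.style.haveILetI false

namespace CfsgLib.AlphaRho

open CfsgLib.SixtyFour CfsgLib.Unitary CfsgLib.AutPSU CfsgLib.Forms

/-- Change of coordinates. -/
def SqData.transport {A V W V' W' : Type*} [Group A] [AddCommGroup V] [AddCommGroup W] [AddCommGroup V'] [AddCommGroup W']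
    {q : V → W} {q' : V' → W'} (a : SqData A V W q) (e : V ≃+ V') (f : W ≃+ W') (h : ∀ v, f (q v) = q' (e v)) :
    SqData A V' W' q' where
  π x := e (a.π x)
  θ x := f (a.θ x)
  π_mul x y := by rw [a.π_mul, map_add]
  π_surj v := by obtain ⟨x, hx⟩ := a.π_surj (e.symm v); exact ⟨x, by rw [hx, e.apply_symm_apply]⟩
  central z hz := a.central z (e.injective (hz.trans (map_zero e).symm))
  θ_mul z z' hz hz' := by
    rw [a.θ_mul z z' (e.injective (hz.trans (map_zero e).symm)) (e.injective (hz'.trans (map_zero e).symm)), map_add]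
  θ_inj z hz hθ := a.θ_inj z (e.injective (hz.trans (map_zero e).symm)) (f.injective (hθ.trans (map_zero f).symm))
  θ_surj t := by
    obtain ⟨z, hz, hzt⟩ := a.θ_surj (f.symm t)
    exact ⟨z, by rw [hz, map_zero], by rw [hzt, f.apply_symm_apply]⟩
  sq_π x := by rw [a.sq_π, map_zero]
  sq_θ x := by rw [a.sq_θ, h]

theorem psl_sqData {F : Type} [Field F] [Fintype F] [CharP F 2] {n : ℕ} (hn : n ≠ 0) (hF : Fintype.card F = 2 ^ n) :
    ∃ S : Sylow 2 (Matrix.ProjectiveSpecialLinearGroup (Fin 3) F),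
      Nonempty (SqData ↥(S : Subgroup (Matrix.ProjectiveSpecialLinearGroup (Fin 3) F)) (F × F) F fun v => v.1 * v.2) := by
  classical
  haveI : Fact (Nat.Prime 2) := ⟨Nat.prime_two⟩
  let E : F × F × F → Matrix.ProjectiveSpecialLinearGroup (Fin 3) F := fun v => puni v.1 v.2.1 v.2.2
  have hE : Function.Injective E := fun v v' h => by
    obtain ⟨h1, h2, h3⟩ := puni_injective h
    exact Prod.ext h1 (Prod.ext h2 h3)
  let U : Subgroup (Matrix.ProjectiveSpecialLinearGroup (Fin 3) F) :=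
    { carrier := Set.range E
      mul_mem' := by
        rintro _ _ ⟨v, rfl⟩ ⟨v', rfl⟩
        exact ⟨(v.1 + v'.1, v.2.1 + v'.2.1, v.2.2 + v'.2.2 + v.1 * v'.2.1), (puni_mul _ _ _ _ _ _).symm⟩
      one_mem' := ⟨(0, 0, 0), puni_zero⟩
      inv_mem' := by
        rintro _ ⟨v, rfl⟩
        refine ⟨(-v.1, -v.2.1, -v.2.2 + v.1 * v.2.1), eq_inv_of_mul_eq_one_right ?_⟩
        rw [show E v * E _ = puni _ _ _ from puni_mul _ _ _ _ _ _, ← puni_zero]
        congr 1 <;> ring }
  let e : F × F × F ≃ U := Equiv.ofInjective E hE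
  have hUcard : Nat.card U = 2 ^ (3 * n) := by
    rw [← Nat.card_congr e, Nat.card_prod, Nat.card_prod, Nat.card_eq_fintype_card, hF]; ring
  have hfac : (Nat.card (Matrix.ProjectiveSpecialLinearGroup (Fin 3) F)).factorization 2 = 3 * n := by
    have h := CfsgLib.Linear.card_PSL_mul hF 3 (by omega)
    rw [Fin.prod_univ_three] at h
    simp only [Fin.val_zero, Fin.val_one, Fin.val_two, pow_zero, pow_one] at h
    have hq : 2 ≤ 2 ^ n := Nat.le_self_pow hn 2
    set q := 2 ^ n with hqdef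
    have h2 : 2 ∣ q := dvd_pow_self 2 hn
    have hodd : ∀ m : ℕ, m ≠ 0 → ¬ 2 ∣ q ^ m - 1 := fun m hm hd => by
      have : 2 ∣ q ^ m := dvd_pow h2 hm
      have : 1 ≤ q ^ m := Nat.one_le_pow _ _ (by omega)
      omega
    have e1 : (q ^ 3 - q) = q * (q ^ 2 - 1) := by rw [Nat.mul_sub, mul_one]; ring_nf
    have e2 : (q ^ 3 - q ^ 2) = q ^ 2 * (q - 1) := by rw [Nat.mul_sub, mul_one]; ring_nf
    rw [e1, e2, show (q ^ 3 - 1) * (q * (q ^ 2 - 1)) * (q ^ 2 * (q - 1)) =
      (q - 1) * (q ^ 3 * ((q ^ 3 - 1) * (q ^ 2 - 1))) by ring, mul_left_comm (Nat.gcd 3 (q - 1))] at h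
    have h' := Nat.eq_of_mul_eq_mul_left (show 0 < q - 1 by omega) h
    have hg : ¬ 2 ∣ Nat.gcd 3 (q - 1) := fun hd => by
      have := hd.trans (Nat.gcd_dvd_left 3 (q - 1))
      omega
    have h'' : (Nat.gcd 3 (q - 1) * Nat.card (Matrix.ProjectiveSpecialLinearGroup (Fin 3) F)).factorization 2 =
        (q ^ 3 * ((q ^ 3 - 1) * (q ^ 2 - 1))).factorization 2 := by rw [h']
    have hne : (q ^ 3 - 1) * (q ^ 2 - 1) ≠ 0 := fun h0 => by
      rcases mul_eq_zero.1 h0 with h0 | h0
      · exact hodd 3 (by omega) (h0 ▸ dvd_zero 2)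
      · exact hodd 2 (by omega) (h0 ▸ dvd_zero 2)
    rw [Nat.factorization_mul (show Nat.gcd 3 (q - 1) ≠ 0 from Nat.gcd_ne_zero_left (by omega)) Nat.card_pos.ne',
      Nat.factorization_mul (show q ^ 3 ≠ 0 from pow_ne_zero _ (by omega)) hne, Finsupp.add_apply, Finsupp.add_apply,
      Nat.factorization_eq_zero_of_not_dvd hg,
      Nat.factorization_eq_zero_of_not_dvd (show ¬ 2 ∣ (q ^ 3 - 1) * (q ^ 2 - 1) from fun hd =>
        (Nat.prime_two.dvd_mul.1 hd).elim (hodd 3 (by omega)) (hodd 2 (by omega))),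
      hqdef, ← pow_mul, Nat.prime_two.factorization_pow, Finsupp.single_eq_same, zero_add, add_zero] at h''
    rw [h'']; ring
  let S : Sylow 2 (Matrix.ProjectiveSpecialLinearGroup (Fin 3) F) := Sylow.ofCard U (by rw [hUcard, hfac])
  have hSU : (S : Subgroup (Matrix.ProjectiveSpecialLinearGroup (Fin 3) F)) = U := rfl
  refine ⟨S, ⟨?_⟩⟩
  rw [hSU]
  have hmul : ∀ v v', e v * e v' = e (v.1 + v'.1, v.2.1 + v'.2.1, v.2.2 + v'.2.2 + v.1 * v'.2.1) := fun v v' =>
    Subtype.ext (puni_mul _ _ _ _ _ _)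
  have hsymm : ∀ x y, e.symm (x * y) = ((e.symm x).1 + (e.symm y).1, (e.symm x).2.1 + (e.symm y).2.1,
      (e.symm x).2.2 + (e.symm y).2.2 + (e.symm x).1 * (e.symm y).2.1) := fun x y => by
    rw [Equiv.symm_apply_eq, ← hmul, e.apply_symm_apply, e.apply_symm_apply]
  have hone : e.symm 1 = (0, 0, 0) := by rw [Equiv.symm_apply_eq]; exact Subtype.ext puni_zero.symm
  exact
    { π := fun x => ((e.symm x).1, (e.symm x).2.1)
      θ := fun x => (e.symm x).2.2
      π_mul := fun x y => by rw [hsymm]; rfl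
      π_surj := fun v => ⟨e (v.1, v.2, 0), by rw [e.symm_apply_apply]⟩
      central := fun z hz x => by
        obtain ⟨h1, h2⟩ := Prod.mk.injEq .. ▸ hz
        apply e.symm.injective
        rw [hsymm, hsymm, show (e.symm z).1 = 0 from h1, show (e.symm z).2.1 = 0 from h2]
        exact Prod.ext (by ring) (Prod.ext (by ring) (by ring))
      θ_mul := fun z z' hz hz' => by
        rw [hsymm]
        show _ + _ + _ = _
        rw [show (e.symm z).1 = 0 from congrArg Prod.fst hz, zero_mul, add_zero]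
      θ_inj := fun z hz hθ => e.symm.injective (by
        rw [hone]
        obtain ⟨h1, h2⟩ := Prod.mk.injEq .. ▸ hz
        exact Prod.ext h1 (Prod.ext h2 hθ))
      θ_surj := fun t => ⟨e (0, 0, t), by rw [e.symm_apply_apply]; rfl, by rw [e.symm_apply_apply]⟩
      sq_π := fun x => by
        rw [hsymm]
        exact Prod.ext (CharTwo.add_self_eq_zero _) (CharTwo.add_self_eq_zero _)
      sq_θ := fun x => by
        rw [hsymm]
        show _ + _ + _ = _
        rw [CharTwo.add_self_eq_zero, zero_add] }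

theorem psu_sylow_equiv {F : Type*} [Field F] [Finite F] {q n : ℕ} (hF : Nat.card F = q ^ 2) (hn : n ≠ 0)
    (hq : q = 2 ^ n) (P : Sylow 2 (Cfsg.SU 3 F q)) (S : Sylow 2 (Cfsg.PSU 3 F q)) :
    Nonempty (↥(S : Subgroup (Cfsg.PSU 3 F q)) ≃* ↥(P : Subgroup (Cfsg.SU 3 F q))) := by
  have hodd : Odd (Nat.card (Subgroup.center (Cfsg.SU 3 F q))) := by
    rw [CfsgLib.Unitary.card_center_SU hF (by omega)]
    exact Odd.of_dvd_nat (by decide) (Nat.gcd_dvd_left 3 (q + 1))
  have hker : ∀ g : Cfsg.SU 3 F q, QuotientGroup.mk' (Subgroup.center (Cfsg.SU 3 F q)) g = 1 →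
      g ^ Nat.card (Subgroup.center (Cfsg.SU 3 F q)) = 1 := fun g hg =>
    congrArg Subtype.val (pow_card_eq_one' (x := (⟨g, (QuotientGroup.eq_one_iff g).1 hg⟩ : Subgroup.center (Cfsg.SU 3 F q))))
  obtain ⟨e⟩ := CfsgLib.Linear.TwoSylow.sylow_equiv_of_hom (QuotientGroup.mk' (Subgroup.center (Cfsg.SU 3 F q))) hodd hker
    hodd odd_one (by
      rw [one_mul, mul_comm]
      exact (Subgroup.card_eq_card_quotient_mul_card_subgroup _).symm) P S
  exact ⟨e.symm⟩

theorem psu_sqData_of {n : ℕ} (hn : n ≠ 0) (η : GaloisField 2 n) (hη : ∀ r : GaloisField 2 n, r ^ 2 + r ≠ η)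
    {E : Type*} [Field E] [Fintype E] (hE : Nat.card E = (2 ^ n) ^ 2) (S : Sylow 2 (Cfsg.PSU 3 E (2 ^ n))) :
    Nonempty (SqData ↥(S : Subgroup (Cfsg.PSU 3 E (2 ^ n)))
      (GaloisField 2 n × GaloisField 2 n) (GaloisField 2 n) fun v => v.1 ^ 2 + v.1 * v.2 + η * v.2 ^ 2) := by
  classical
  haveI : Fact (Nat.Prime 2) := ⟨Nat.prime_two⟩
  haveI : CharP E 2 := by
    obtain ⟨r, hr⟩ := CharP.exists E
    haveI := hr
    obtain ⟨⟨k, hk⟩, hrp, hc⟩ := FiniteField.card E r
    rw [← Nat.card_eq_fintype_card, hE, ← pow_mul, PNat.mk_coe] at hc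
    have hr2 : r = 2 := by
      have hd : r ∣ 2 ^ (n * 2) := hc ▸ dvd_pow_self r hk.ne'
      exact (Nat.prime_dvd_prime_iff_eq hrp Nat.prime_two).1 (hrp.dvd_of_dvd_pow hd)
    exact hr2 ▸ hr
  have := Fintype.ofFinite (GaloisField 2 n)
  generalize hq' : 2 ^ n = q at hE S ⊢
  have hq : q = 2 ^ n := hq'.symm
  obtain ⟨P⟩ := (inferInstance : Nonempty (Sylow 2 (Cfsg.SU 3 E q)))
  obtain ⟨e⟩ := psu_sylow_equiv hE hn hq P S
  obtain ⟨M₀⟩ := CfsgLib.SUThreeSylowAut.nonempty_model hE hn hq P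
  let M := M₀.pull e
  -- the fixed field
  let K : Subfield E := (frobQ hE).eqLocusField (RingHom.id E)
  have hK : ∀ z : E, z ∈ K ↔ z ^ q = z := fun z => by
    show frobQ hE z = z ↔ _
    rw [frobQ_apply hE]
  have hKcard : Nat.card K = q := by
    rw [Nat.card_congr (Equiv.subtypeEquivRight hK), CfsgLib.Invol.U3Center.card_fixed hE]
  have := Fintype.ofFinite K
  let i : GaloisField 2 n ≃+* K := FiniteField.ringEquivOfCardEq (by
    rw [← Nat.card_eq_fintype_card, ← Nat.card_eq_fintype_card, hKcard, GaloisField.card 2 n hn, hq])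
  have hη' : ((i η : K) : E) ^ q = i η := (hK _).1 (i η).2
  -- a root of the form
  obtain ⟨t, ht⟩ := exists_trace_eq hE (μ := 1) (one_pow q)
  let g : K →+ K := AddMonoidHom.mk' (fun k => k ^ 2 + k) fun a b => by
    haveI : CharP K 2 := inferInstance
    rw [CharTwo.add_sq]; abel
  have hgker : Nat.card g.ker ≤ 2 := by
    have hinj : Function.Injective (fun k : g.ker => decide ((k : K) = 0)) := by
      intro a b h
      have hz : ∀ k : g.ker, (k : K) ≠ 0 → (k : K) = 1 := fun k hk => by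
        have hk2 : (k : K) * ((k : K) + 1) = 0 := by
          have := k.2
          rw [AddMonoidHom.mem_ker] at this
          rw [mul_add_one, ← pow_two]; exact this
        exact CharTwo.add_eq_zero.1 ((mul_eq_zero.1 hk2).resolve_left hk)
      by_cases ha : (a : K) = 0
      · have hb : (b : K) = 0 := by simpa [ha] using h
        exact Subtype.ext (ha.trans hb.symm)
      · have hb : (b : K) ≠ 0 := by simpa [ha] using h
        exact Subtype.ext ((hz a ha).trans (hz b hb).symm)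
    exact (Nat.card_le_card_of_injective _ hinj).trans (by rw [Nat.card_eq_fintype_card, Fintype.card_bool])
  have hgn : (i η : K) ∉ g.range := by
    rintro ⟨k, hk⟩
    refine hη (i.symm k) ?_
    apply i.injective
    rw [map_add, map_pow, i.apply_symm_apply]
    exact hk
  have hgidx : g.range.index = 2 := by
    have h1 := AddSubgroup.card_eq_card_quotient_mul_card_addSubgroup g.ker
    rw [Nat.card_congr (QuotientAddGroup.quotientKerEquivRange g).toEquiv] at h1
    have h2 := AddSubgroup.card_mul_index g.range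
    have hpos : 0 < Nat.card g.range := Nat.card_pos
    have h4 : g.range.index ≠ 1 := fun h => hgn (by rw [AddSubgroup.index_eq_one.1 h]; exact AddSubgroup.mem_top _)
    have h5 : g.range.index = Nat.card g.ker := Nat.eq_of_mul_eq_mul_left hpos (h2.trans h1)
    have h6 : g.range.index ≠ 0 := AddSubgroup.index_ne_zero_of_finite
    omega
  have ht2 : t ^ 2 + t ∈ K := by
    rw [hK, add_pow_q hE, pow_right_comm]
    have htq : t ^ q = t + 1 := by linear_combination ht - t * CharTwo.two_eq_zero (R := E)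
    rw [htq]
    linear_combination (t + 1) * CharTwo.two_eq_zero (R := E)
  have htn : (⟨t ^ 2 + t, ht2⟩ : K) ∉ g.range := by
    rintro ⟨k, hk⟩
    have hk' : (k : E) ^ 2 + k = t ^ 2 + t := congrArg Subtype.val hk
    have h0 : ((k : E) + t) * ((k : E) + t + 1) = 0 := by
      linear_combination hk' + ((k : E) * t + t ^ 2 + t) * CharTwo.two_eq_zero (R := E)
    have : t ∈ K := by
      rcases mul_eq_zero.1 h0 with h | h
      · rw [← CharTwo.add_eq_zero.1 h]; exact k.2
      · have ht' : t = (k : E) + 1 := by linear_combination h - ((k : E) + 1) * CharTwo.two_eq_zero (R := E)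
        rw [ht']; exact K.add_mem k.2 K.one_mem
    rw [(hK t).1 this, CharTwo.add_self_eq_zero] at ht
    exact zero_ne_one ht
  obtain ⟨k, hk⟩ : (i η : K) + ⟨t ^ 2 + t, ht2⟩ ∈ g.range :=
    (AddSubgroup.add_mem_iff_of_index_two hgidx).2 (iff_of_false hgn htn)
  set r : E := (k : E) + t with hr
  have hkq : (k : E) ^ q = k := (hK _).1 k.2
  have hrq : r ^ q = r + 1 := by
    rw [hr, add_pow_q hE, hkq]
    linear_combination ht - t * CharTwo.two_eq_zero (R := E)
  have hr2 : r ^ 2 + r = ((i η : K) : E) := by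
    have hk' : (k : E) ^ 2 + k = ((i η : K) : E) + (t ^ 2 + t) := congrArg Subtype.val hk
    rw [hr]
    linear_combination hk' + ((k : E) * t + t ^ 2 + t) * CharTwo.two_eq_zero (R := E)
  have hrK : r ∉ K := fun h => by
    rw [hK, hrq, add_eq_left] at h
    exact one_ne_zero h
  let v : GaloisField 2 n × GaloisField 2 n →+ E := AddMonoidHom.mk' (fun p => ((i p.1 : K) : E) + ((i p.2 : K) : E) * r) fun a b => by
    simp only [Prod.fst_add, Prod.snd_add, map_add, Subfield.coe_add]; ring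
  have hvinj : Function.Injective v := by
    refine (injective_iff_map_eq_zero v).2 fun p (hp : ((i p.1 : K) : E) + ((i p.2 : K) : E) * r = 0) => ?_
    rcases eq_or_ne p.2 0 with h | h
    · rw [h, map_zero, Subfield.coe_zero, zero_mul, add_zero] at hp
      exact Prod.ext (i.injective ((Subtype.ext hp : i p.1 = 0).trans (map_zero i).symm)) h
    · exfalso
      apply hrK
      have hne : ((i p.2 : K) : E) ≠ 0 := fun h0 => h (i.injective ((Subtype.ext h0 : i p.2 = 0).trans (map_zero i).symm))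
      have : r = -((i p.1 : K) : E) / ((i p.2 : K) : E) := by rw [eq_div_iff hne]; linear_combination hp
      rw [this]
      exact K.div_mem (K.neg_mem (i p.1).2) (i p.2).2
  have hvsurj : Function.Surjective v := (hvinj.bijective_of_nat_card_le (by
    rw [Nat.card_prod, GaloisField.card 2 n hn, hE, hq, pow_two])).2
  let V : GaloisField 2 n × GaloisField 2 n ≃+ E := AddEquiv.ofBijective v ⟨hvinj, hvsurj⟩
  -- the model
  have hφ1 : M.φ 1 = 0 := by
    have := M.φ_mul 1 1
    rwa [mul_one, left_eq_add] at this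
  have hιmem : ∀ x, M.φ x = 0 → M.ι x ∈ K := fun x hx => by
    have := M.cond x
    rw [hx, zero_pow (Nat.succ_ne_zero q), add_zero] at this
    exact (hK _).2 (CharTwo.add_eq_zero.1 this).symm
  let θK : ↥(S : Subgroup (Cfsg.PSU 3 E q)) → K := fun x => if h : M.φ x = 0 then ⟨M.ι x, hιmem x h⟩ else 0
  have hθK : ∀ x, M.φ x = 0 → ((θK x : K) : E) = M.ι x := fun x h => by simp only [θK, dif_pos h]
  have hN : ∀ w : E, w ^ (q + 1) ∈ K := fun w => (hK _).2 (CfsgLib.Invol.U3Center.norm_fixed hE w)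
  have hι1 : M.ι 1 = 0 := by
    have := M.ι_mul 1 1
    rwa [mul_one, hφ1, zero_mul, add_zero, left_eq_add] at this
  let D : SqData ↥(S : Subgroup (Cfsg.PSU 3 E q)) E K fun w => ⟨w ^ (q + 1), hN w⟩ :=
    { π := M.φ
      θ := θK
      π_mul := M.φ_mul
      π_surj := fun w => by
        obtain ⟨s, hs⟩ := exists_root hE (CfsgLib.Invol.U3Center.norm_fixed hE w)
        obtain ⟨x, hx, -⟩ := M.surj w s hs
        exact ⟨x, hx⟩
      central := fun z hz x => M.eq_of _ _ (by rw [M.φ_mul, M.φ_mul, add_comm])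
        (by rw [M.ι_mul, M.ι_mul, hz, zero_pow (show q ≠ 0 by rw [hq]; positivity), mul_zero, zero_mul]; ring)
      θ_mul := fun z z' hz hz' => Subtype.ext (by
        rw [Subfield.coe_add, hθK _ (by rw [M.φ_mul, hz, hz', add_zero]), hθK _ hz, hθK _ hz', M.ι_mul, hz', zero_mul,
          add_zero])
      θ_inj := fun z hz hθ => M.eq_of _ _ (hz.trans hφ1.symm)
        (by rw [← hθK z hz, hθ, hι1]; rfl)
      θ_surj := fun s => by
        obtain ⟨x, hx, hx'⟩ := M.surj 0 (s : E) (by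
          rw [(hK _).1 s.2, CharTwo.add_self_eq_zero, zero_pow (Nat.succ_ne_zero q), add_zero])
        exact ⟨x, hx, Subtype.ext ((hθK x hx).trans hx')⟩
      sq_π := fun x => by rw [M.φ_mul, CharTwo.add_self_eq_zero]
      sq_θ := fun x => Subtype.ext (by
        rw [hθK _ (by rw [M.φ_mul, CharTwo.add_self_eq_zero]), M.ι_mul, CharTwo.add_self_eq_zero, zero_add, ← pow_succ']) }
  refine ⟨D.transport V.symm i.symm.toAddEquiv fun w => ?_⟩
  obtain ⟨⟨a, b⟩, rfl⟩ := V.surjective w
  rw [V.symm_apply_apply]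
  apply i.injective
  show i (i.symm _) = _
  rw [i.apply_symm_apply]
  refine Subtype.ext ?_
  show (((i a : K) : E) + ((i b : K) : E) * r) ^ (q + 1) = ((i (a ^ 2 + a * b + η * b ^ 2) : K) : E)
  rw [pow_succ, add_pow_q hE, mul_pow, (hK _).1 (i a).2, (hK _).1 (i b).2, hrq]
  simp only [map_add, map_mul, map_pow, Subfield.coe_add, Subfield.coe_mul, SubmonoidClass.coe_pow, ← hr2]
  linear_combination ((i a : K) : E) * ((i b : K) : E) * r * CharTwo.two_eq_zero (R := E)

theorem psu_sqData {n : ℕ} (hn : n ≠ 0) (η : GaloisField 2 n) (hη : ∀ r : GaloisField 2 n, r ^ 2 + r ≠ η) :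
    ∃ (E : Type) (_ : Field E) (_ : Fintype E), Fintype.card E = 4 ^ n ∧
      ∃ S : Sylow 2 (Cfsg.PSU 3 E (2 ^ n)), Nonempty (SqData ↥(S : Subgroup (Cfsg.PSU 3 E (2 ^ n)))
        (GaloisField 2 n × GaloisField 2 n) (GaloisField 2 n) fun v => v.1 ^ 2 + v.1 * v.2 + η * v.2 ^ 2) := by
  haveI : Fact (Nat.Prime 2) := ⟨Nat.prime_two⟩
  let E := GaloisField 2 (2 * n)
  have := Fintype.ofFinite E
  have hE : Nat.card E = (2 ^ n) ^ 2 := by rw [GaloisField.card 2 _ (by omega), ← pow_mul, mul_comm]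
  obtain ⟨S⟩ := (inferInstance : Nonempty (Sylow 2 (Cfsg.PSU 3 E (2 ^ n))))
  exact ⟨E, inferInstance, inferInstance, by
    rw [← Nat.card_eq_fintype_card, hE, ← pow_mul, show (4 : ℕ) = 2 ^ 2 from rfl, ← pow_mul, mul_comm],
    S, psu_sqData_of hn η hη hE S⟩

end CfsgLib.AlphaRho
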