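import Cfsg.Agent.AlphaRho.Main
import Cfsg.Agent.AlphaRho.Models
import Cfsg.Prelude.Def_Transfer

/-!
Classification of the noncommutative 2-groups with a transitive cyclic group on the fixed points of an involution.
-/

set_option autoImplicit false
set_option linter.style.haveILetI false

namespace CfsgLib.AlphaRho

theorem mulAut_pow_apply {Q : Type*} [Group Q] (σ : MulAut Q) (k : ℕ) (x : Q) : (σ ^ k) x = (⇑σ)^[k] x := by
  induction k generalizing x with
  | zero => rfl
  | succ k ih => rw [pow_succ, MulAut.mul_apply, ih, Function.iterate_succ_apply]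

theorem classify {Q : Type*} [Group Q] [Finite Q] (hQ : IsPGroup 2 Q) (hna : ¬ IsMulCommutative Q) (n : ℕ) (hn : 2 ≤ n)
    (α ρ : MulAut Q) (hα : orderOf α = 2) (hρ : orderOf ρ = 2 ^ n - 1) (hc : Commute α ρ)
    (C : Subgroup Q) (hC : ∀ x : Q, x ∈ C ↔ α x = x) (hCE : Cfsg.IsElementaryAbelian 2 C ∧ Nat.card ↥C = 2 ^ n)
    (htr : ∀ x y : Q, x ∈ C → y ∈ C → x ≠ 1 → y ≠ 1 → ∃ k : ℕ, (ρ ^ k) x = y) :
    (∃ (F : Type) (_ : Field F) (_ : Fintype F), Fintype.card F = 4 ^ n ∧
        ∃ S : Sylow 2 (Cfsg.PSU 3 F (2 ^ n)), Nonempty (Q ≃* ↥(S : Subgroup (Cfsg.PSU 3 F (2 ^ n))))) ∨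
      (∃ (F : Type) (_ : Field F) (_ : Fintype F), Fintype.card F = 2 ^ n ∧
        ∃ S : Sylow 2 (Matrix.ProjectiveSpecialLinearGroup (Fin 3) F), Nonempty (Q ≃* ↥(S : Subgroup (Matrix.ProjectiveSpecialLinearGroup (Fin 3) F)))) := by
  classical
  obtain ⟨⟨hcomm, hexp⟩, hcard⟩ := hCE
  haveI := hcomm
  have hinv : ∀ x, α (α x) = x := fun x => by
    rw [← MulAut.mul_apply, ← pow_two, ← hα, pow_orderOf_eq_one]; rfl
  have hαρ : ∀ x, α (ρ x) = ρ (α x) := fun x => DFunLike.congr_fun hc.eq x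
  have hρC : ∀ x ∈ C, ρ x ∈ C := fun x hx => by rw [hC, hαρ, (hC x).1 hx]
  let T : Additive C →+ Additive C := MonoidHom.toAdditive
    (MonoidHom.mk' (fun c => (⟨ρ c, hρC c c.2⟩ : C)) fun a b => Subtype.ext (map_mul ρ (a : Q) b))
  have hTit : ∀ (k : ℕ) (c : Additive C), (((T^[k] c).toMul : C) : Q) = (⇑ρ)^[k] (c.toMul : Q) := by
    intro k
    induction k with
    | zero => intro c; rfl
    | succ k ih => intro c; rw [Function.iterate_succ_apply', Function.iterate_succ_apply', ← ih]; rfl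
  letI : AddCommGroup (Additive C) :=
    { (inferInstance : AddGroup (Additive C)) with
      add_comm := fun a b => by
        show Additive.ofMul (a.toMul * b.toMul) = Additive.ofMul (b.toMul * a.toMul)
        rw [mul_comm'] }
  obtain ⟨θ₀, ζ, hθρ, hgen⟩ := exists_field_coord (A := Additive C) (n := n) (by omega)
    ((Nat.card_congr Additive.toMul).trans hcard) T
    (fun a b h => Subtype.ext (ρ.injective (congrArg Subtype.val h)))
    fun x y hx hy => by
      obtain ⟨k, hk⟩ := htr (x.toMul : Q) (y.toMul : Q) x.toMul.2 y.toMul.2 (fun h => hx (Subtype.ext h : x.toMul = 1))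
        (fun h => hy (Subtype.ext h : y.toMul = 1))
      exact ⟨k, Additive.toMul.injective (Subtype.ext ((hTit k x).trans ((mulAut_pow_apply ρ k _).symm.trans hk)))⟩
  let θ : Q → GaloisField 2 n := fun x => if h : α x = x then θ₀ (Additive.ofMul ⟨x, (hC x).2 h⟩) else 0
  have hθ : ∀ x (h : α x = x), θ x = θ₀ (Additive.ofMul ⟨x, (hC x).2 h⟩) := fun x h => dif_pos h
  haveI : Fact (Nat.Prime 2) := ⟨Nat.prime_two⟩
  have hFcard : Nat.card (GaloisField 2 n) = 2 ^ n := GaloisField.card 2 n (by omega)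
  let X : Ctx Q (GaloisField 2 n) :=
    { α := α
      ρ := ρ
      θ := θ
      ζ := ζ
      inv := hinv
      comm := hαρ
      sq_one := fun c h => by rw [← pow_two]; exact hexp c ((hC c).2 h)
      θ_add := fun c c' h h' => by
        rw [hθ _ (by rw [map_mul, h, h']), hθ c h, hθ c' h', ← map_add]; rfl
      θ_ker := fun c h h0 => by
        rw [hθ c h] at h0
        exact congrArg (fun a : Additive C => ((a.toMul : C) : Q)) (θ₀.injective (h0.trans (map_zero θ₀).symm))
      θ_surj := fun t => by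
        have hmem := (hC _).1 (θ₀.symm t).toMul.2
        exact ⟨_, hmem, by rw [hθ _ hmem]; exact θ₀.apply_symm_apply t⟩
      θ_ρ := fun c h => by
        rw [hθ _ (by rw [hαρ, h]), hθ c h, ← hθρ]; rfl
      gen := hgen
      big := by rw [hFcard]; exact le_trans (by norm_num) (Nat.pow_le_pow_right two_pos hn)
      period := fun x => by rw [hFcard, ← mulAut_pow_apply, ← hρ, pow_orderOf_eq_one]; rfl }
  have hnc : ∃ x y : Q, x * y ≠ y * x := by
    by_contra h
    push Not at h
    exact hna ⟨⟨h⟩⟩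
  obtain ⟨u, w, η, hu, hw, hsurj, hker, hsq⟩ := X.exists_quad hQ hnc
  have := Fintype.ofFinite (GaloisField 2 n)
  let D : SqData Q (GaloisField 2 n × GaloisField 2 n) (GaloisField 2 n)
      fun v => v.1 ^ 2 + v.1 * v.2 + η * v.2 ^ 2 :=
    { π := fun x => (u x, w x)
      θ := θ
      π_mul := fun x y => Prod.ext (hu x y) (hw x y)
      π_surj := fun v => by
        obtain ⟨x, h1, h2⟩ := hsurj v.1 v.2
        exact ⟨x, Prod.ext h1 h2⟩
      central := fun z hz x => (Subgroup.mem_center_iff.1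
        (X.central hQ ((hker z).2 ⟨congrArg Prod.fst hz, congrArg Prod.snd hz⟩)) x).symm
      θ_mul := fun z z' hz hz' => X.θ_add z z' ((hker z).2 ⟨congrArg Prod.fst hz, congrArg Prod.snd hz⟩)
        ((hker z').2 ⟨congrArg Prod.fst hz', congrArg Prod.snd hz'⟩)
      θ_inj := fun z hz h => X.θ_ker z ((hker z).2 ⟨congrArg Prod.fst hz, congrArg Prod.snd hz⟩) h
      θ_surj := fun t => by
        obtain ⟨c, hc, hc'⟩ := X.θ_surj t
        exact ⟨c, Prod.ext ((hker c).1 hc).1 ((hker c).1 hc).2, hc'⟩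
      sq_π := fun x => Prod.ext ((hker _).1 (hsq x).1).1 ((hker _).1 (hsq x).1).2
      sq_θ := fun x => (hsq x).2 }
  by_cases hr : ∃ r : GaloisField 2 n, r ^ 2 + r = η
  · right
    obtain ⟨r, hr⟩ := hr
    refine ⟨GaloisField 2 n, inferInstance, inferInstance, by rw [← Nat.card_eq_fintype_card, hFcard], ?_⟩
    obtain ⟨S, ⟨P⟩⟩ := psl_sqData (F := GaloisField 2 n) (n := n) (by omega) (by rw [← Nat.card_eq_fintype_card, hFcard])
    refine ⟨S, D.nonempty_equiv (P.transport
      { toFun := fun v => (v.1 + r * (v.1 + v.2), v.1 + v.2)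
        invFun := fun v => (v.1 + r * v.2, v.2 + (v.1 + r * v.2))
        left_inv := fun v => Prod.ext
          (by show v.1 + r * (v.1 + v.2) + r * (v.1 + v.2) = v.1; rw [add_assoc, CharTwo.add_self_eq_zero, add_zero])
          (by
            show v.1 + v.2 + (v.1 + r * (v.1 + v.2) + r * (v.1 + v.2)) = v.2
            rw [add_assoc v.1 (r * _), CharTwo.add_self_eq_zero, add_zero]
            linear_combination v.1 * CharTwo.two_eq_zero (R := GaloisField 2 n))
        right_inv := fun v => by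
          refine Prod.ext ?_ ?_
          · show v.1 + r * v.2 + r * (v.1 + r * v.2 + (v.2 + (v.1 + r * v.2))) = v.1
            linear_combination (r * v.2 + r * v.1 + r * r * v.2) * CharTwo.two_eq_zero (R := GaloisField 2 n)
          · show v.1 + r * v.2 + (v.2 + (v.1 + r * v.2)) = v.2
            linear_combination (v.1 + r * v.2) * CharTwo.two_eq_zero (R := GaloisField 2 n)
        map_add' := fun v v' => Prod.ext
          (by show v.1 + v'.1 + r * (v.1 + v'.1 + (v.2 + v'.2)) = v.1 + r * (v.1 + v.2) + (v'.1 + r * (v'.1 + v'.2)); ring)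
          (by show v.1 + v'.1 + (v.2 + v'.2) = v.1 + v.2 + (v'.1 + v'.2); ring) }
      (AddEquiv.refl _) fun v => ?_)⟩
    show v.1 * v.2 = (v.1 + r * (v.1 + v.2)) ^ 2 + (v.1 + r * (v.1 + v.2)) * (v.1 + v.2) + η * (v.1 + v.2) ^ 2
    rw [← hr]
    linear_combination (-(r * (v.1 + v.2) * v.1) - v.1 ^ 2 - r * (v.1 + v.2) ^ 2 - r ^ 2 * (v.1 + v.2) ^ 2) *
      CharTwo.two_eq_zero (R := GaloisField 2 n)
  · left
    push Not at hr
    obtain ⟨E, i1, i2, hE, S, ⟨P⟩⟩ := psu_sqData (n := n) (by omega) η hr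
    exact ⟨E, i1, i2, hE, S, D.nonempty_equiv P⟩

end CfsgLib.AlphaRho
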