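import Cfsg.Agent.AlphaRho.Field
import Mathlib.GroupTheory.Commutator.Basic
import Mathlib.GroupTheory.QuotientGroup.Basic

/-!
A finite 2-group with an involutive automorphism and a commuting automorphism that is transitive on the
nontrivial fixed points: the first layers.
-/

set_option autoImplicit false
set_option linter.style.haveILetI false
set_option linter.unusedSectionVars false

namespace CfsgLib.AlphaRho

open scoped commutatorElement

universe u v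

/-- An involutive automorphism, a commuting one, and field coordinates on the fixed points of the first. -/
structure Ctx (Q : Type u) [Group Q] (F : Type v) [Field F] where
  /-- the involution -/
  α : MulAut Q
  /-- the commuting automorphism -/
  ρ : MulAut Q
  /-- coordinate on the fixed points -/
  θ : Q → F
  /-- multiplier -/
  ζ : F
  inv : ∀ x, α (α x) = x
  comm : ∀ x, α (ρ x) = ρ (α x)
  sq_one : ∀ c, α c = c → c * c = 1
  θ_add : ∀ c c', α c = c → α c' = c' → θ (c * c') = θ c + θ c'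
  θ_ker : ∀ c, α c = c → θ c = 0 → c = 1
  θ_surj : ∀ t, ∃ c, α c = c ∧ θ c = t
  θ_ρ : ∀ c, α c = c → θ (ρ c) = ζ * θ c
  gen : ∀ k, k ≠ 0 → ∃ i : ℕ, ζ ^ i = k
  big : 4 ≤ Nat.card F
  period : ∀ x, ((⇑ρ)^[Nat.card F - 1]) x = x

theorem exists_fixed_ne_one {G : Type*} [Group G] [Finite G] [Nontrivial G] (hG : IsPGroup 2 G) (β : MulAut G)
    (hβ : ∀ x, β (β x) = x) : ∃ z ∈ Subgroup.center G, z ≠ 1 ∧ β z = z := by
  have : Fact (Nat.Prime 2) := ⟨Nat.prime_two⟩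
  have := hG.center_nontrivial
  obtain ⟨⟨z, hz⟩, hz1⟩ := exists_ne (1 : Subgroup.center G)
  have hz1' : z ≠ 1 := fun h => hz1 (Subtype.ext h)
  have hβz : β z ∈ Subgroup.center G := Subgroup.mem_center_iff.2 fun g => by
    have := congrArg β (Subgroup.mem_center_iff.1 hz (β g))
    rwa [map_mul, map_mul, hβ] at this
  by_cases h : z * β z = 1
  · obtain ⟨k, hk, hk1⟩ : ∃ k : ℕ, z ^ k ≠ 1 ∧ (z ^ k) ^ 2 = 1 := by
      obtain ⟨a, ha⟩ := hG z
      induction a with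
      | zero => exact absurd (by simpa using ha) hz1'
      | succ a ih =>
        rw [pow_succ, pow_mul] at ha
        by_cases h' : z ^ 2 ^ a = 1
        · exact ih h'
        · exact ⟨_, h', ha⟩
    refine ⟨z ^ k, Subgroup.pow_mem _ hz k, hk, ?_⟩
    rw [map_pow, eq_inv_of_mul_eq_one_right h, inv_pow, inv_eq_iff_mul_eq_one, ← pow_two, hk1]
  · refine ⟨z * β z, Subgroup.mul_mem _ hz hβz, h, ?_⟩
    rw [map_mul, hβ]
    exact (Subgroup.mem_center_iff.1 hz _)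

variable {Q : Type u} [Group Q] [Finite Q] {F : Type v} [Field F] [Finite F] [CharP F 2]
variable (X : Ctx Q F)

namespace Ctx

/-- The defect of fixedness. -/
def d (x : Q) : Q := x⁻¹ * X.α x

theorem α_eq (x : Q) : X.α x = x * X.d x := (mul_inv_cancel_left x _).symm

theorem d_eq_one {x : Q} (h : X.α x = x) : X.d x = 1 := by rw [d, h, inv_mul_cancel]

theorem fixed_of_d {x : Q} (h : X.d x = 1) : X.α x = x := by rw [X.α_eq, h, mul_one]

theorem d_mul (x y : Q) : X.d (x * y) = y⁻¹ * X.d x * y * X.d y := by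
  simp only [d, map_mul]; group

theorem α_d (x : Q) : X.α (X.d x) = (X.d x)⁻¹ := by
  simp only [d, map_mul, map_inv, X.inv]; group

theorem d_d (x : Q) : X.d (X.d x) = ((X.d x) * (X.d x))⁻¹ := by
  conv_lhs => rw [d, X.α_d]
  rw [mul_inv_rev]

theorem d_ρ (x : Q) : X.d (X.ρ x) = X.ρ (X.d x) := by
  simp only [d, map_mul, map_inv, X.comm]

theorem fixed_ρ {c : Q} (h : X.α c = c) : X.α (X.ρ c) = X.ρ c := by rw [X.comm, h]

/-- The fixed points. -/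
def fix : Subgroup Q where
  carrier := {x | X.α x = x}
  mul_mem' := fun {a b} (ha : X.α a = a) (hb : X.α b = b) => by show X.α (a * b) = a * b; rw [map_mul, ha, hb]
  one_mem' := map_one X.α
  inv_mem' := fun {a} (ha : X.α a = a) => by show X.α a⁻¹ = a⁻¹; rw [map_inv, ha]

theorem mem_fix {x : Q} : x ∈ X.fix ↔ X.α x = x := Iff.rfl

theorem inv_fixed {c : Q} (h : X.α c = c) : c⁻¹ = c := inv_eq_of_mul_eq_one_right (X.sq_one c h)

theorem θ_one : X.θ 1 = 0 := by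
  have := X.θ_add 1 1 (map_one _) (map_one _)
  rwa [mul_one, left_eq_add] at this

theorem θ_inj {c c' : Q} (h : X.α c = c) (h' : X.α c' = c') (he : X.θ c = X.θ c') : c = c' := by
  have := X.θ_ker (c * c') (X.fix.mul_mem h h') (by rw [X.θ_add _ _ h h', he, CharTwo.add_self_eq_zero])
  rw [eq_inv_of_mul_eq_one_left this, X.inv_fixed h']

theorem θ_iterate {c : Q} (h : X.α c = c) (i : ℕ) :
    X.α ((⇑X.ρ)^[i] c) = (⇑X.ρ)^[i] c ∧ X.θ ((⇑X.ρ)^[i] c) = X.ζ ^ i * X.θ c := by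
  induction i with
  | zero => exact ⟨h, by simp⟩
  | succ i ih =>
    rw [Function.iterate_succ_apply']
    exact ⟨X.fixed_ρ ih.1, by rw [X.θ_ρ _ ih.1, ih.2, pow_succ, ← mul_assoc, mul_comm X.ζ]⟩

variable (hQ : IsPGroup 2 Q)
include hQ

theorem central {c : Q} (hc : X.α c = c) : c ∈ Subgroup.center Q := by
  rcases eq_or_ne c 1 with rfl | hc1
  · exact Subgroup.one_mem _
  have : Nontrivial Q := ⟨⟨c, 1, hc1⟩⟩
  obtain ⟨z, hz, hz1, hzf⟩ := exists_fixed_ne_one hQ X.α X.inv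
  have hθz : X.θ z ≠ 0 := fun h => hz1 (X.θ_ker z hzf h)
  have hθc : X.θ c ≠ 0 := fun h => hc1 (X.θ_ker c hc h)
  obtain ⟨i, hi⟩ := X.gen (X.θ c / X.θ z) (div_ne_zero hθc hθz)
  obtain ⟨h1, h2⟩ := X.θ_iterate hzf i
  rw [hi, div_mul_cancel₀ _ hθz] at h2
  rw [← X.θ_inj h1 hc h2]
  clear h1 h2 hi
  induction i with
  | zero => exact hz
  | succ i ih =>
    rw [Function.iterate_succ_apply', Subgroup.mem_center_iff]
    intro g
    obtain ⟨g, rfl⟩ := X.ρ.surjective g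
    rw [← map_mul, ← map_mul, Subgroup.mem_center_iff.1 ih]

theorem fix_normal : X.fix.Normal :=
  ⟨fun c hc g => by rwa [Subgroup.mem_center_iff.1 (X.central hQ hc) g, mul_inv_cancel_right]⟩

theorem d_mul_fixed {x : Q} (hx : X.α (X.d x) = X.d x) (y : Q) : X.d (x * y) = X.d x * X.d y := by
  rw [d_mul, mul_assoc y⁻¹, ← Subgroup.mem_center_iff.1 (X.central hQ hx) y, inv_mul_cancel_left]

theorem d_mul_right {c : Q} (hc : X.α c = c) (x : Q) : X.d (x * c) = X.d x := by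
  rw [d_mul, X.d_eq_one hc, mul_one, mul_assoc, Subgroup.mem_center_iff.1 (X.central hQ hc), inv_mul_cancel_left]

theorem d_congr {x y : Q} (h : X.α (x⁻¹ * y) = x⁻¹ * y) : X.d y = X.d x := by
  have := X.d_mul_right hQ h x
  rwa [mul_inv_cancel_left] at this

/-- The context on the quotient by the fixed points, when these are not everything. -/
theorem exists_quot (hne : ∃ x, X.α x ≠ x) :
    ∃ (_ : X.fix.Normal) (Y : Ctx (Q ⧸ X.fix) F), IsPGroup 2 (Q ⧸ X.fix) ∧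
      Nat.card (Q ⧸ X.fix) < Nat.card Q ∧
      (∀ x : Q, Y.α x = (X.α x : Q)) ∧ (∀ x : Q, Y.ρ x = (X.ρ x : Q)) ∧
      (∀ x : Q, Y.θ x = X.θ (X.d x)) ∧ Y.ζ = X.ζ := by
  have hN := X.fix_normal hQ
  refine ⟨hN, ?_⟩
  have hα : X.fix.map X.α.toMonoidHom = X.fix := by
    refine le_antisymm (Subgroup.map_le_iff_le_comap.2 fun c hc => ?_) fun c hc => ⟨c, hc, hc⟩
    show X.α (X.α c) = X.α c
    rw [show X.α c = c from hc]; exact hc
  have hρ : X.fix.map X.ρ.toMonoidHom = X.fix := by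
    refine Subgroup.eq_of_le_of_card_ge (Subgroup.map_le_iff_le_comap.2 fun c hc => X.fixed_ρ hc) ?_
    rw [Subgroup.card_map_of_injective X.ρ.injective]
  let α' : MulAut (Q ⧸ X.fix) := QuotientGroup.congr X.fix X.fix X.α hα
  let ρ' : MulAut (Q ⧸ X.fix) := QuotientGroup.congr X.fix X.fix X.ρ hρ
  have hα' : ∀ x : Q, α' x = (X.α x : Q) := fun _ => rfl
  have hρ' : ∀ x : Q, ρ' x = (X.ρ x : Q) := fun _ => rfl
  let θ' : Q ⧸ X.fix → F := fun q => X.θ (X.d (Quotient.out q))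
  have hθ' : ∀ x : Q, θ' x = X.θ (X.d x) := by
    intro x
    show X.θ (X.d _) = _
    rw [X.d_congr hQ (x := x) (y := Quotient.out (x : Q ⧸ X.fix))
      ((QuotientGroup.eq).1 (Quotient.out_eq (x : Q ⧸ X.fix)).symm)]
  have hfixed : ∀ x : Q, α' x = (x : Q ⧸ X.fix) → X.α (X.d x) = X.d x := fun x h => by
    rw [hα', eq_comm, QuotientGroup.eq] at h
    exact h
  have hfixed' : ∀ x : Q, X.α (X.d x) = X.d x → α' x = (x : Q ⧸ X.fix) := fun x h => by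
    rw [hα', eq_comm, QuotientGroup.eq]
    exact h
  have : Nontrivial (Q ⧸ X.fix) := by
    obtain ⟨x, hx⟩ := hne
    exact ⟨⟨x, 1, fun h => hx ((QuotientGroup.eq_one_iff x).1 h)⟩⟩
  obtain ⟨z, -, hz1, hz⟩ := exists_fixed_ne_one (hQ.to_quotient X.fix) α' (fun q => by
    obtain ⟨x, rfl⟩ := QuotientGroup.mk_surjective q
    rw [hα', hα', X.inv])
  obtain ⟨z, rfl⟩ := QuotientGroup.mk_surjective z
  have hzne : X.θ (X.d z) ≠ 0 := fun h =>
    hz1 ((QuotientGroup.eq_one_iff z).2 (X.fixed_of_d (X.θ_ker _ (hfixed z hz) h)))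
  refine ⟨⟨α', ρ', θ', X.ζ, ?_, ?_, ?_, ?_, ?_, ?_, ?_, X.gen, X.big, ?_⟩, hQ.to_quotient X.fix, ?_,
    hα', hρ', hθ', rfl⟩
  · intro q
    obtain ⟨x, rfl⟩ := QuotientGroup.mk_surjective q
    rw [hα', hα', X.inv]
  · intro q
    obtain ⟨x, rfl⟩ := QuotientGroup.mk_surjective q
    rw [hρ', hα', hα', hρ', X.comm]
  · intro q hq
    obtain ⟨x, rfl⟩ := QuotientGroup.mk_surjective q
    rw [← QuotientGroup.mk_mul, QuotientGroup.eq_one_iff]
    exact X.fixed_of_d (by rw [X.d_mul_fixed hQ (hfixed x hq), X.sq_one _ (hfixed x hq)])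
  · intro q q' hq hq'
    obtain ⟨x, rfl⟩ := QuotientGroup.mk_surjective q
    obtain ⟨y, rfl⟩ := QuotientGroup.mk_surjective q'
    rw [← QuotientGroup.mk_mul, hθ', hθ', hθ', X.d_mul_fixed hQ (hfixed x hq),
      X.θ_add _ _ (hfixed x hq) (hfixed y hq')]
  · intro q hq h
    obtain ⟨x, rfl⟩ := QuotientGroup.mk_surjective q
    rw [hθ'] at h
    exact (QuotientGroup.eq_one_iff x).2 (X.fixed_of_d (X.θ_ker _ (hfixed x hq) h))
  · intro t
    rcases eq_or_ne t 0 with rfl | ht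
    · exact ⟨((1 : Q) : Q ⧸ X.fix), by rw [hα', map_one], by rw [hθ', X.d_eq_one (map_one _), X.θ_one]⟩
    obtain ⟨i, hi⟩ := X.gen (t / X.θ (X.d z)) (div_ne_zero ht hzne)
    have hd : ∀ j : ℕ, X.d ((⇑X.ρ)^[j] z) = (⇑X.ρ)^[j] (X.d z) := by
      intro j
      induction j with
      | zero => rfl
      | succ j ih => rw [Function.iterate_succ_apply', Function.iterate_succ_apply', X.d_ρ, ih]
    obtain ⟨h1, h2⟩ := X.θ_iterate (hfixed z hz) i
    refine ⟨(((⇑X.ρ)^[i] z : Q) : Q ⧸ X.fix), hfixed' _ (by rw [hd]; exact h1), ?_⟩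
    rw [hθ', hd, h2, hi, div_mul_cancel₀ _ hzne]
  · intro q hq
    obtain ⟨x, rfl⟩ := QuotientGroup.mk_surjective q
    rw [hρ', hθ', hθ', X.d_ρ, X.θ_ρ _ (hfixed x hq)]
  · intro q
    obtain ⟨x, rfl⟩ := QuotientGroup.mk_surjective q
    have : ∀ j : ℕ, (⇑ρ')^[j] (x : Q ⧸ X.fix) = (((⇑X.ρ)^[j] x : Q) : Q ⧸ X.fix) := by
      intro j
      induction j with
      | zero => rfl
      | succ j ih => rw [Function.iterate_succ_apply', Function.iterate_succ_apply', ih, hρ']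
    rw [this, X.period]
  · obtain ⟨c, hc, hc1⟩ := X.θ_surj 1
    have hfne : Nontrivial X.fix :=
      ⟨⟨⟨c, hc⟩, 1, fun h => one_ne_zero (hc1.symm.trans (by rw [show c = 1 from congrArg Subtype.val h, X.θ_one]))⟩⟩
    rw [Subgroup.card_eq_card_quotient_mul_card_subgroup X.fix]
    exact lt_mul_of_one_lt_right Nat.card_pos (Finite.one_lt_card_iff_nontrivial.2 hfne)

theorem tau_surj (hne : ∃ x, X.α x ≠ x) (t : F) : ∃ e, X.α (X.d e) = X.d e ∧ X.θ (X.d e) = t := by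
  obtain ⟨hN, Y, -, -, hYα, -, hYθ, -⟩ := X.exists_quot hQ hne
  obtain ⟨q, hq, hqt⟩ := Y.θ_surj t
  obtain ⟨e, rfl⟩ := QuotientGroup.mk_surjective q
  rw [hYα, eq_comm, QuotientGroup.eq] at hq
  exact ⟨e, hq, by rw [← hYθ, hqt]⟩

/-- The second layer is central modulo the fixed points. -/
theorem comm_fixed {e : Q} (he : X.α (X.d e) = X.d e) (x : Q) : X.α ⁅e, x⁆ = ⁅e, x⁆ := by
  by_cases hne : ∃ y, X.α y ≠ y
  · obtain ⟨hN, Y, hp, -, hYα, -, -, -⟩ := X.exists_quot hQ hne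
    have hc := Y.central hp (c := (e : Q ⧸ X.fix)) (by rw [hYα, eq_comm, QuotientGroup.eq]; exact he)
    show ⁅e, x⁆ ∈ X.fix
    rw [← QuotientGroup.eq_one_iff]
    show (QuotientGroup.mk' X.fix) ⁅e, x⁆ = 1
    rw [map_commutatorElement, commutatorElement_eq_one_iff_mul_comm]
    exact (Subgroup.mem_center_iff.1 hc _).symm
  · push Not at hne
    exact hne _

omit hQ

/-- The form given by commutators. -/
def om (x y : Q) : F := X.θ ⁅x, y⁆

theorem om_self (x : Q) : X.om x x = 0 := by rw [om, commutatorElement_self, X.θ_one]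

theorem om_ρ {x y : Q} (h : X.α ⁅x, y⁆ = ⁅x, y⁆) : X.om (X.ρ x) (X.ρ y) = X.ζ * X.om x y := by
  rw [om, om, ← map_commutatorElement, X.θ_ρ _ h]

theorem comm_symm {x y : Q} (h : X.α ⁅x, y⁆ = ⁅x, y⁆) : ⁅y, x⁆ = ⁅x, y⁆ := by
  rw [← commutatorElement_inv x y, X.inv_fixed h]

theorem om_symm {x y : Q} (h : X.α ⁅x, y⁆ = ⁅x, y⁆) : X.om y x = X.om x y := by
  rw [om, om, X.comm_symm h]

theorem om_eq_zero {x y : Q} (h : X.α ⁅x, y⁆ = ⁅x, y⁆) (h0 : X.om x y = 0) : x * y = y * x :=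
  commutatorElement_eq_one_iff_mul_comm.1 (X.θ_ker _ h h0)

theorem om_of_comm {x y : Q} (h : x * y = y * x) : X.om x y = 0 := by
  rw [om, commutatorElement_eq_one_iff_mul_comm.2 h, X.θ_one]

include hQ

theorem om_left {a b c : Q} (ha : X.α ⁅a, c⁆ = ⁅a, c⁆) (hb : X.α ⁅b, c⁆ = ⁅b, c⁆) :
    X.α ⁅a * b, c⁆ = ⁅a * b, c⁆ ∧ X.om (a * b) c = X.om a c + X.om b c := by
  have h : ⁅a * b, c⁆ = ⁅b, c⁆ * ⁅a, c⁆ := by
    rw [show ⁅a * b, c⁆ = a * ⁅b, c⁆ * a⁻¹ * ⁅a, c⁆ by simp only [commutatorElement_def]; group,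
      Subgroup.mem_center_iff.1 (X.central hQ hb) a, mul_inv_cancel_right]
  refine ⟨by rw [h, map_mul, ha, hb], ?_⟩
  rw [om, om, om, h, X.θ_add _ _ hb ha, add_comm]

theorem om_right {a b c : Q} (ha : X.α ⁅c, a⁆ = ⁅c, a⁆) (hb : X.α ⁅c, b⁆ = ⁅c, b⁆) :
    X.α ⁅c, a * b⁆ = ⁅c, a * b⁆ ∧ X.om c (a * b) = X.om c a + X.om c b := by
  have ha' : X.α ⁅a, c⁆ = ⁅a, c⁆ := by rw [X.comm_symm ha]; exact ha
  have hb' : X.α ⁅b, c⁆ = ⁅b, c⁆ := by rw [X.comm_symm hb]; exact hb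
  obtain ⟨h1, h2⟩ := X.om_left hQ ha' hb'
  rw [X.comm_symm h1]
  exact ⟨h1, by rw [X.om_symm h1, h2, X.om_symm ha, X.om_symm hb]⟩

omit hQ

/-- Square roots in the field. -/
noncomputable def rt : F ≃+* F := (frobeniusEquiv F 2).symm

theorem rt_sq (a : F) : rt a ^ 2 = a := frobeniusEquiv_symm_pow_p F 2 a

theorem rt_of_sq (a : F) : rt (a ^ 2) = a := by
  apply frobenius_inj F 2
  rw [frobenius_def, frobenius_def, rt_sq]

/-- The square root of the multiplier. -/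
noncomputable def κ : F := rt X.ζ

theorem κ_gen (k : F) (hk : k ≠ 0) : ∃ i : ℕ, X.κ ^ i = k := by
  obtain ⟨i, hi⟩ := X.gen (k ^ 2) (pow_ne_zero _ hk)
  exact ⟨i, by rw [κ, ← map_pow, hi, rt_of_sq]⟩

theorem κ_sq : X.κ ^ 2 = X.ζ := rt_sq _

/-- Coordinate on the second layer. -/
noncomputable def ψ (e : Q) : F := rt (X.θ (X.d e))

theorem ψ_sq (e : Q) : X.ψ e ^ 2 = X.θ (X.d e) := rt_sq _

theorem ψ_ρ {e : Q} (he : X.α (X.d e) = X.d e) : X.ψ (X.ρ e) = X.κ * X.ψ e := by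
  rw [ψ, ψ, κ, ← map_mul, X.d_ρ, X.θ_ρ _ he]

theorem ψ_eq_zero {e : Q} (he : X.α (X.d e) = X.d e) (h : X.ψ e = 0) : X.α e = e := by
  refine X.fixed_of_d (X.θ_ker _ he ?_)
  rw [← X.ψ_sq, h, zero_pow two_ne_zero]

theorem ψ_of_fixed {e : Q} (he : X.α e = e) : X.ψ e = 0 := by
  rw [ψ, X.d_eq_one he, X.θ_one, map_zero]

include hQ

theorem ψ_add {e : Q} (he : X.α (X.d e) = X.d e) {f : Q} (hf : X.α (X.d f) = X.d f) :
    X.α (X.d (e * f)) = X.d (e * f) ∧ X.ψ (e * f) = X.ψ e + X.ψ f := by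
  rw [ψ, ψ, ψ, X.d_mul_fixed hQ he]
  exact ⟨by rw [map_mul, he, hf], by rw [X.θ_add _ _ he hf, map_add]⟩

theorem ψ_surj (hne : ∃ x, X.α x ≠ x) (a : F) : ∃ e, X.α (X.d e) = X.d e ∧ X.ψ e = a := by
  obtain ⟨e, he, h⟩ := X.tau_surj hQ hne (a ^ 2)
  exact ⟨e, he, by rw [ψ, h, rt_of_sq]⟩

/-- Commutator forms in coordinates. -/
theorem pair_form (S T : Subgroup Q) (v w : Q → F) (hSρ : ∀ x ∈ S, X.ρ x ∈ S) (hTρ : ∀ x ∈ T, X.ρ x ∈ T)
    (hv : ∀ x ∈ S, ∀ y ∈ S, v (x * y) = v x + v y) (hw : ∀ x ∈ T, ∀ y ∈ T, w (x * y) = w x + w y)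
    (hvρ : ∀ x ∈ S, v (X.ρ x) = X.κ * v x) (hwρ : ∀ x ∈ T, w (X.ρ x) = X.κ * w x)
    (hvs : ∀ a, ∃ x ∈ S, v x = a) (hws : ∀ a, ∃ x ∈ T, w x = a)
    (hfix : ∀ x ∈ S, ∀ y ∈ T, X.α ⁅x, y⁆ = ⁅x, y⁆)
    (hS0 : ∀ x ∈ S, v x = 0 → ∀ y ∈ T, X.om x y = 0) (hT0 : ∀ y ∈ T, w y = 0 → ∀ x ∈ S, X.om x y = 0) :
    ∃ c, ∀ x ∈ S, ∀ y ∈ T, X.om x y = c * (v x * w y) := by
  classical
  choose sv hsv hsv' using hvs
  choose sw hsw hsw' using hws
  have hindep : ∀ x ∈ S, ∀ y ∈ T, X.om x y = X.om (sv (v x)) (sw (w y)) := by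
    intro x hx y hy
    have hz : (sv (v x))⁻¹ * x ∈ S := S.mul_mem (S.inv_mem (hsv _)) hx
    have hvz : v ((sv (v x))⁻¹ * x) = 0 := by
      have := hv _ (hsv (v x)) _ hz
      rwa [mul_inv_cancel_left, hsv', left_eq_add] at this
    have hu : (sw (w y))⁻¹ * y ∈ T := T.mul_mem (T.inv_mem (hsw _)) hy
    have hwu : w ((sw (w y))⁻¹ * y) = 0 := by
      have := hw _ (hsw (w y)) _ hu
      rwa [mul_inv_cancel_left, hsw', left_eq_add] at this
    calc X.om x y = X.om (sv (v x) * ((sv (v x))⁻¹ * x)) y := by rw [mul_inv_cancel_left]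
      _ = X.om (sv (v x)) y := by
        rw [(X.om_left hQ (hfix _ (hsv _) y hy) (hfix _ hz y hy)).2, hS0 _ hz hvz y hy, add_zero]
      _ = X.om (sv (v x)) (sw (w y) * ((sw (w y))⁻¹ * y)) := by rw [mul_inv_cancel_left]
      _ = _ := by
        rw [(X.om_right hQ (hfix _ (hsv _) _ (hsw _)) (hfix _ (hsv _) _ hu)).2, hT0 _ hu hwu _ (hsv _), add_zero]
  refine ⟨X.om (sv 1) (sw 1), fun x hx y hy => ?_⟩
  rw [hindep x hx y hy]
  refine bi_weight X.κ_gen (fun a b => X.om (sv a) (sw b)) (fun a a' b => ?_) (fun a b b' => ?_) (fun a b => ?_) _ _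
  · have h := hindep (sv a * sv a') (S.mul_mem (hsv _) (hsv _)) (sw b) (hsw _)
    rw [hv _ (hsv _) _ (hsv _), hsv', hsv', hsw'] at h
    show X.om (sv (a + a')) (sw b) = _
    rw [← h, (X.om_left hQ (hfix _ (hsv _) _ (hsw _)) (hfix _ (hsv _) _ (hsw _))).2]
  · have h := hindep (sv a) (hsv _) (sw b * sw b') (T.mul_mem (hsw _) (hsw _))
    rw [hw _ (hsw _) _ (hsw _), hsv', hsw', hsw'] at h
    show X.om (sv a) (sw (b + b')) = _
    rw [← h, (X.om_right hQ (hfix _ (hsv _) _ (hsw _)) (hfix _ (hsv _) _ (hsw _))).2]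
  · have h := hindep (X.ρ (sv a)) (hSρ _ (hsv _)) (X.ρ (sw b)) (hTρ _ (hsw _))
    rw [hvρ _ (hsv _), hwρ _ (hsw _), hsv', hsw'] at h
    show X.om (sv (X.κ * a)) (sw (X.κ * b)) = _
    rw [← h, X.om_ρ (hfix _ (hsv _) _ (hsw _)), X.κ_sq]

/-- A subgroup with one coordinate is commutative. -/
theorem comm_of_coord (S : Subgroup Q) (v : Q → F) (hSρ : ∀ x ∈ S, X.ρ x ∈ S)
    (hv : ∀ x ∈ S, ∀ y ∈ S, v (x * y) = v x + v y) (hvρ : ∀ x ∈ S, v (X.ρ x) = X.κ * v x)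
    (hvs : ∀ a, ∃ x ∈ S, v x = a) (hfix : ∀ x ∈ S, ∀ y ∈ S, X.α ⁅x, y⁆ = ⁅x, y⁆)
    (hS0 : ∀ x ∈ S, v x = 0 → ∀ y ∈ S, X.om x y = 0) : ∀ x ∈ S, ∀ y ∈ S, x * y = y * x := by
  obtain ⟨c, hc⟩ := X.pair_form hQ S S v v hSρ hSρ hv hv hvρ hvρ hvs hvs hfix hS0
    (fun y hy h x hx => by rw [X.om_symm (hfix y hy x hx)]; exact hS0 y hy h x hx)
  obtain ⟨x₁, hx₁, hv₁⟩ := hvs 1
  have hc0 : c = 0 := by
    have := hc x₁ hx₁ x₁ hx₁
    rwa [X.om_self, hv₁, mul_one, mul_one, eq_comm] at this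
  intro x hx y hy
  exact X.om_eq_zero (hfix x hx y hy) (by rw [hc x hx y hy, hc0, zero_mul])

end Ctx

end CfsgLib.AlphaRho
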