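import Mathlib.FieldTheory.Finite.GaloisField
import Mathlib.GroupTheory.PGroup
import Mathlib.RingTheory.IntegralDomain
import Mathlib.Algebra.Group.Subgroup.Finite

/-!
Field lemmas for groups with a transitive cyclic automorphism group on a subgroup.
-/

set_option autoImplicit false
set_option linter.style.haveILetI false

namespace CfsgLib.AlphaRho

/-- A finite abelian group with an automorphism transitive on the nonzero elements is the additive group of a
field on which the automorphism is a multiplication. -/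
theorem exists_field_coord {A : Type*} [AddCommGroup A] [Finite A] {n : ℕ} (hn : n ≠ 0) (hcard : Nat.card A = 2 ^ n)
    (T : A →+ A) (hT : Function.Injective T) (htr : ∀ x y : A, x ≠ 0 → y ≠ 0 → ∃ i : ℕ, T^[i] x = y) :
    ∃ (θ : A ≃+ GaloisField 2 n) (ζ : GaloisField 2 n), (∀ x, θ (T x) = ζ * θ x) ∧
      ∀ k, k ≠ 0 → ∃ i : ℕ, ζ ^ i = k := by
  classical
  have : Fact (Nat.Prime 2) := ⟨Nat.prime_two⟩
  have : Nontrivial A := Finite.one_lt_card_iff_nontrivial.1 (by rw [hcard]; exact Nat.one_lt_two_pow hn)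
  obtain ⟨c₀, hc₀⟩ := exists_ne (0 : A)
  let T' : AddMonoid.End A := T
  let R : Subring (AddMonoid.End A) := Subring.closure {T'}
  have hpow : ∀ i : ℕ, ∀ x, (T' ^ i) x = T^[i] x := fun i x => by rw [AddMonoid.End.coe_pow]; rfl
  have hmemT : T' ∈ R := Subring.subset_closure rfl
  have hc : ∀ r ∈ R, r * T' = T' * r := by
    intro r hr
    have : R ≤ Subring.centralizer {T'} := Subring.closure_le.2 (by
      rintro _ rfl
      exact Subring.mem_centralizer_iff.2 fun y hy => by rw [Set.mem_singleton_iff.1 hy])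
    exact ((Subring.mem_centralizer_iff.1 (this hr)) T' rfl).symm
  let ev : R →+ A :=
    { toFun := fun r => r.1 c₀
      map_zero' := rfl
      map_add' := fun r s => rfl }
  have hci : ∀ r : R, ∀ i : ℕ, r.1 (T^[i] c₀) = T^[i] (r.1 c₀) := by
    intro r i
    rw [← hpow, ← hpow]
    exact DFunLike.congr_fun (Commute.pow_right (hc r.1 r.2) i).eq c₀
  have hinj : Function.Injective ev := by
    refine (injective_iff_map_eq_zero ev).2 fun r hr => Subtype.ext (AddMonoidHom.ext fun x => ?_)
    rcases eq_or_ne x 0 with rfl | hx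
    · exact map_zero r.1
    obtain ⟨i, rfl⟩ := htr c₀ x hc₀ hx
    show r.1 (T^[i] c₀) = 0
    rw [hci, show r.1 c₀ = 0 from hr]
    exact Function.iterate_fixed T.map_zero i
  have hsurj : Function.Surjective ev := by
    intro y
    rcases eq_or_ne y 0 with rfl | hy
    · exact ⟨0, rfl⟩
    obtain ⟨i, hi⟩ := htr c₀ y hc₀ hy
    exact ⟨⟨T' ^ i, pow_mem hmemT i⟩, (hpow i c₀).trans hi⟩
  have : Finite R := Finite.of_injective _ hinj
  let e₀ : R ≃+ A := AddEquiv.ofBijective ev ⟨hinj, hsurj⟩
  letI : CommRing R :=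
    { (inferInstance : Ring R) with
      mul_comm := fun r s => by
        apply hinj
        show (r.1 * s.1) c₀ = (s.1 * r.1) c₀
        rcases eq_or_ne (s.1 c₀) 0 with h | h
        · have hs : s = 0 := hinj (h.trans (map_zero ev).symm)
          subst hs
          simp
        obtain ⟨i, hi⟩ := htr c₀ _ hc₀ h
        have hs : s = ⟨T' ^ i, pow_mem hmemT i⟩ := hinj (hi.symm.trans (hpow i c₀).symm)
        rw [hs, (Commute.pow_right (hc r.1 r.2) i).eq] }
  have : Nontrivial R := e₀.toEquiv.nontrivial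
  have : NoZeroDivisors R := ⟨fun {r s} h => or_iff_not_imp_right.2 fun hs => by
    have hs' : s.1 c₀ ≠ 0 := fun h0 => hs (hinj (h0.trans (map_zero ev).symm))
    obtain ⟨i, hi⟩ := htr c₀ _ hc₀ hs'
    apply hinj
    have h' : r.1 (s.1 c₀) = 0 := congrArg (fun t : R => t.1 c₀) h
    rw [← hi, hci] at h'
    exact (hT.iterate i) (h'.trans (Function.iterate_fixed T.map_zero i).symm)⟩
  have : IsDomain R := NoZeroDivisors.to_isDomain R
  letI : Field R := (Finite.isField_of_domain R).toField
  have : Fintype R := Fintype.ofFinite R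
  have : Fintype (GaloisField 2 n) := Fintype.ofFinite _
  have hR : Fintype.card R = Fintype.card (GaloisField 2 n) := by
    rw [← Nat.card_eq_fintype_card, ← Nat.card_eq_fintype_card, Nat.card_congr e₀.toEquiv, hcard, GaloisField.card 2 n hn]
  let f : R ≃+* GaloisField 2 n := FiniteField.ringEquivOfCardEq hR
  refine ⟨e₀.symm.trans f.toAddEquiv, f ⟨T', hmemT⟩, fun x => ?_, fun k hk => ?_⟩
  · show f (e₀.symm (T x)) = f _ * f (e₀.symm x)
    rw [← map_mul]
    congr 1
    apply e₀.injective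
    rw [AddEquiv.apply_symm_apply]
    show T x = T ((e₀.symm x).1 c₀)
    rw [show (e₀.symm x).1 c₀ = x from e₀.apply_symm_apply x]
  · have hr : f.symm k ≠ 0 := fun h => hk (f.symm.injective (h.trans (map_zero f.symm).symm))
    have h0 : e₀ (f.symm k) ≠ 0 := fun h => hr (e₀.injective (h.trans (map_zero e₀).symm))
    obtain ⟨i, hi⟩ := htr c₀ _ hc₀ h0
    refine ⟨i, ?_⟩
    rw [← map_pow, ← f.apply_symm_apply k]
    congr 1
    apply e₀.injective
    rw [← hi]
    show (((⟨T', hmemT⟩ : R) ^ i).1) c₀ = _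
    rw [SubmonoidClass.coe_pow, hpow]

variable {F : Type*} [Field F]

/-- Additive maps scaling like the square. -/
theorem sq_weight {κ : F} (hκ : ∀ k, k ≠ 0 → ∃ i : ℕ, κ ^ i = k) (f : F → F) (hadd : ∀ a b, f (a + b) = f a + f b)
    (h : ∀ a, f (κ * a) = κ ^ 2 * f a) : ∀ a, f a = f 1 * a ^ 2 := by
  have hi : ∀ i : ℕ, f (κ ^ i) = f 1 * (κ ^ i) ^ 2 := by
    intro i
    induction i with
    | zero => simp
    | succ i ih => rw [pow_succ', h, ih]; ring
  intro a
  rcases eq_or_ne a 0 with rfl | ha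
  · have := hadd 0 0
    rw [add_zero, left_eq_add] at this
    rw [this]; ring
  · obtain ⟨i, rfl⟩ := hκ a ha
    exact hi i

/-- Additive maps scaling linearly. -/
theorem one_weight {κ : F} (hκ : ∀ k, k ≠ 0 → ∃ i : ℕ, κ ^ i = k) (f : F → F) (hadd : ∀ a b, f (a + b) = f a + f b)
    (h : ∀ a, f (κ * a) = κ * f a) : ∀ a, f a = f 1 * a := by
  have hi : ∀ i : ℕ, f (κ ^ i) = f 1 * κ ^ i := by
    intro i
    induction i with
    | zero => simp
    | succ i ih => rw [pow_succ', h, ih]; ring
  intro a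
  rcases eq_or_ne a 0 with rfl | ha
  · have := hadd 0 0
    rw [add_zero, left_eq_add] at this
    rw [this]; ring
  · obtain ⟨i, rfl⟩ := hκ a ha
    exact hi i

variable [CharP F 2] [Finite F]

/-- Biadditive maps scaling like the product in characteristic two. -/
theorem bi_weight {κ : F} (hκ : ∀ k, k ≠ 0 → ∃ i : ℕ, κ ^ i = k) (β : F → F → F)
    (hl : ∀ a a' b, β (a + a') b = β a b + β a' b) (hr : ∀ a b b', β a (b + b') = β a b + β a b')
    (h : ∀ a b, β (κ * a) (κ * b) = κ ^ 2 * β a b) : ∀ a b, β a b = β 1 1 * (a * b) := by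
  have h0l : ∀ b, β 0 b = 0 := fun b => by
    have := hl 0 0 b; rwa [add_zero, left_eq_add] at this
  have h0r : ∀ a, β a 0 = 0 := fun a => by
    have := hr a 0 0; rwa [add_zero, left_eq_add] at this
  have hpow : ∀ (i : ℕ) a b, β (κ ^ i * a) (κ ^ i * b) = (κ ^ i) ^ 2 * β a b := by
    intro i
    induction i with
    | zero => intro a b; simp
    | succ i ih => intro a b; rw [pow_succ, mul_assoc, mul_assoc, ih, h]; ring
  have hscale : ∀ k a b, β (k * a) (k * b) = k ^ 2 * β a b := by
    intro k a b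
    rcases eq_or_ne k 0 with rfl | hk
    · simp [h0l]
    obtain ⟨i, rfl⟩ := hκ k hk
    exact hpow i a b
  set f : F → F := fun x => β 1 x + β 1 1 * x with hf
  have hfadd : ∀ x y, f (x + y) = f x + f y := fun x y => by simp only [hf, hr]; ring
  have hf1 : f 1 = 0 := by simp only [hf, mul_one]; exact CharTwo.add_self_eq_zero _
  set g : F → F := fun a => β a 1 + β 1 1 * a with hg
  have hgadd : ∀ x y, g (x + y) = g x + g y := fun x y => by simp only [hg, hl]; ring
  have hgf : ∀ a, a ≠ 0 → g a = a ^ 2 * f a⁻¹ := by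
    intro a ha
    have h1 := hscale a 1 a⁻¹
    rw [mul_one, mul_inv_cancel₀ ha] at h1
    simp only [hg, hf, h1]
    field_simp
  have hg1 : g 1 = 0 := by simp only [hg, mul_one]; exact CharTwo.add_self_eq_zero _
  have hg0 : ∀ a, g (a * a) = 0 := by
    intro a
    rcases eq_or_ne a 0 with rfl | ha0
    · rw [mul_zero]; have := hgadd 0 0; rwa [add_zero, left_eq_add] at this
    rcases eq_or_ne a 1 with rfl | ha1
    · rwa [mul_one]
    have ha1' : a + 1 ≠ 0 := fun h => ha1 (CharTwo.add_eq_zero.1 h)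
    have hp : a * a + a ≠ 0 := by rw [← mul_add_one]; exact mul_ne_zero ha0 ha1'
    have e1 : g (a + 1) = g a := by rw [hgadd, hg1, add_zero]
    have e3 : (a * a + a)⁻¹ = a⁻¹ + (a + 1)⁻¹ := by
      field_simp
      linear_combination (-a) * CharTwo.two_eq_zero (R := F)
    have e2 : g (a * a + a) = g a := by
      rw [hgf _ hp, e3, hfadd]
      have i1 : a ^ 2 * f a⁻¹ = g a := (hgf a ha0).symm
      have i2 : (a + 1) ^ 2 * f (a + 1)⁻¹ = g a := by rw [← hgf _ ha1', e1]
      linear_combination ((a + 1) ^ 2) * i1 + (a ^ 2) * i2 + (a * g a + a ^ 2 * g a) * CharTwo.two_eq_zero (R := F)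
    rw [hgadd, add_eq_right] at e2
    exact e2
  have hgz : ∀ a, g a = 0 := by
    intro a
    obtain ⟨d, hd⟩ := (Finite.injective_iff_surjective.1 (frobenius_inj F 2)) a
    rw [← hd, frobenius_def, pow_two]
    exact hg0 d
  intro a b
  rcases eq_or_ne a 0 with rfl | ha
  · rw [h0l]; ring
  rcases eq_or_ne b 0 with rfl | hb
  · rw [h0r]; ring
  have hfb : f (b / a) = 0 := by
    have h1 := hgz (a / b)
    rw [hgf _ (div_ne_zero ha hb), inv_div] at h1
    exact (mul_eq_zero.1 h1).resolve_left (pow_ne_zero _ (div_ne_zero ha hb))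
  have h1 := hscale a 1 (b / a)
  rw [mul_one, mul_div_cancel₀ _ ha] at h1
  have h2 : β 1 (b / a) = β 1 1 * (b / a) := CharTwo.add_eq_zero.1 hfb
  rw [h1, h2]
  field_simp

end CfsgLib.AlphaRho
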