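import Cfsg.Agent.AlphaRho.Ctx

/-!
The second and third layers.
-/

set_option autoImplicit false
set_option linter.style.haveILetI false
set_option linter.unusedSectionVars false

namespace CfsgLib.AlphaRho.Ctx

open scoped commutatorElement

universe u v

variable {Q : Type u} [Group Q] [Finite Q] {F : Type v} [Field F] [Finite F] [CharP F 2]
variable (X : Ctx Q F) (hQ : IsPGroup 2 Q)
include hQ

theorem map_form_sq (S : Subgroup Q) (v f : Q → F) (hSρ : ∀ x ∈ S, X.ρ x ∈ S)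
    (hv : ∀ x ∈ S, ∀ y ∈ S, v (x * y) = v x + v y) (hvρ : ∀ x ∈ S, v (X.ρ x) = X.κ * v x)
    (hvs : ∀ a, ∃ x ∈ S, v x = a) (hf : ∀ x ∈ S, ∀ y ∈ S, f (x * y) = f x + f y)
    (hfρ : ∀ x ∈ S, f (X.ρ x) = X.κ ^ 2 * f x) (h0 : ∀ x ∈ S, v x = 0 → f x = 0) :
    ∃ c, ∀ x ∈ S, f x = c * v x ^ 2 := by
  choose sv hsv hsv' using hvs
  have hind : ∀ x ∈ S, f x = f (sv (v x)) := fun x hx => by
    have hz : (sv (v x))⁻¹ * x ∈ S := S.mul_mem (S.inv_mem (hsv _)) hx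
    have h := hv _ (hsv (v x)) _ hz
    rw [mul_inv_cancel_left, hsv', left_eq_add] at h
    conv_lhs => rw [← mul_inv_cancel_left (sv (v x)) x, hf _ (hsv _) _ hz, h0 _ hz h, add_zero]
  refine ⟨f (sv 1), fun x hx => ?_⟩
  rw [hind x hx]
  refine sq_weight X.κ_gen (fun a => f (sv a)) (fun a b => ?_) (fun a => ?_) _
  · have h := hind (sv a * sv b) (S.mul_mem (hsv _) (hsv _))
    rw [hv _ (hsv _) _ (hsv _), hsv', hsv'] at h
    show f (sv (a + b)) = _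
    rw [← h, hf _ (hsv _) _ (hsv _)]
  · have h := hind (X.ρ (sv a)) (hSρ _ (hsv _))
    rw [hvρ _ (hsv _), hsv'] at h
    show f (sv (X.κ * a)) = _
    rw [← h, hfρ _ (hsv _)]

theorem map_form_one (S : Subgroup Q) (v f : Q → F) (hSρ : ∀ x ∈ S, X.ρ x ∈ S)
    (hv : ∀ x ∈ S, ∀ y ∈ S, v (x * y) = v x + v y) (hvρ : ∀ x ∈ S, v (X.ρ x) = X.κ * v x)
    (hvs : ∀ a, ∃ x ∈ S, v x = a) (hf : ∀ x ∈ S, ∀ y ∈ S, f (x * y) = f x + f y)
    (hfρ : ∀ x ∈ S, f (X.ρ x) = X.κ * f x) (h0 : ∀ x ∈ S, v x = 0 → f x = 0) :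
    ∃ c, ∀ x ∈ S, f x = c * v x := by
  obtain ⟨c, hc⟩ := X.map_form_sq hQ S v (fun x => f x ^ 2) hSρ hv hvρ hvs
    (fun x hx y hy => by
      show f (x * y) ^ 2 = _
      rw [hf x hx y hy, add_pow_char])
    (fun x hx => by
      show f (X.ρ x) ^ 2 = _
      rw [hfρ x hx, mul_pow])
    (fun x hx h => by
      show f x ^ 2 = 0
      rw [h0 x hx h, zero_pow two_ne_zero])
  refine ⟨rt c, fun x hx => ?_⟩
  apply frobenius_inj F 2
  rw [frobenius_def, frobenius_def, mul_pow, rt_sq, hc x hx]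

/-- The second layer. -/
def layerTwo : Subgroup Q where
  carrier := {e | X.α (X.d e) = X.d e}
  mul_mem' := fun {a b} (ha : X.α (X.d a) = X.d a) (hb : X.α (X.d b) = X.d b) => (X.ψ_add hQ ha hb).1
  one_mem' := by show X.α (X.d 1) = X.d 1; rw [X.d_eq_one (map_one _), map_one]
  inv_mem' := fun {a} (ha : X.α (X.d a) = X.d a) => by
    show X.α (X.d a⁻¹) = X.d a⁻¹
    have h := X.d_mul_fixed hQ ha a⁻¹
    rw [mul_inv_cancel, X.d_eq_one (map_one _)] at h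
    rw [eq_inv_of_mul_eq_one_right h.symm, map_inv, ha]

theorem mem_two {e : Q} : e ∈ X.layerTwo hQ ↔ X.α (X.d e) = X.d e := Iff.rfl

theorem two_ρ {e : Q} (he : e ∈ X.layerTwo hQ) : X.ρ e ∈ X.layerTwo hQ := by
  rw [mem_two, X.d_ρ]; exact X.fixed_ρ he

theorem fixed_mem_two {c : Q} (hc : X.α c = c) : c ∈ X.layerTwo hQ := by
  rw [mem_two, X.d_eq_one hc, map_one]

theorem two_comm {e f : Q} (he : e ∈ X.layerTwo hQ) (hf : f ∈ X.layerTwo hQ) : e * f = f * e := by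
  by_cases hne : ∃ x, X.α x ≠ x
  · refine X.comm_of_coord hQ (X.layerTwo hQ) X.ψ (fun x hx => X.two_ρ hQ hx) (fun x hx y hy => (X.ψ_add hQ hx hy).2)
      (fun x hx => X.ψ_ρ hx) (fun a => X.ψ_surj hQ hne a) (fun x hx y _ => X.comm_fixed hQ hx y) ?_ e he f hf
    intro x hx h0 y _
    exact X.om_of_comm (Subgroup.mem_center_iff.1 (X.central hQ (X.ψ_eq_zero hx h0)) y).symm
  · push Not at hne
    exact (Subgroup.mem_center_iff.1 (X.central hQ (hne e)) f).symm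

theorem two_sq_fixed {e : Q} (he : e ∈ X.layerTwo hQ) : X.α (e * e) = e * e :=
  X.fixed_of_d (by rw [X.d_mul_fixed hQ he, X.sq_one _ he])

/-- Nonvacuity of the third layer. -/
theorem exists_three (hdeep : ∃ x, X.α (X.d x) ≠ X.d x) (t : F) :
    ∃ x, X.d x ∈ X.layerTwo hQ ∧ X.ψ (X.d x) = t := by
  obtain ⟨x, hx⟩ := hdeep
  have hne : ∃ y, X.α y ≠ y := ⟨_, hx⟩
  obtain ⟨hN, Y, hp, -, hYα, -, hYθ, -⟩ := X.exists_quot hQ hne
  have hd : ∀ y : Q, Y.d y = (X.d y : Q) := fun y => by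
    rw [Ctx.d, hYα, ← QuotientGroup.mk_inv, ← QuotientGroup.mk_mul]; rfl
  have hfix : ∀ y : Q, Y.α y = (y : Q ⧸ X.fix) ↔ X.α (X.d y) = X.d y := fun y => by
    rw [hYα, eq_comm, QuotientGroup.eq]; rfl
  obtain ⟨q, hq, hqt⟩ := Y.tau_surj hp ⟨(x : Q ⧸ X.fix), fun h => hx ((hfix x).1 h)⟩ (t ^ 2)
  obtain ⟨y, rfl⟩ := QuotientGroup.mk_surjective q
  rw [hd, hfix] at hq
  rw [hd, hYθ] at hqt
  exact ⟨y, hq, by rw [ψ, hqt, rt_of_sq]⟩

/-- In a deep group squaring is the defect on the second layer. -/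
theorem two_sq (hdeep : ∃ x, X.α (X.d x) ≠ X.d x) {e : Q} (he : e ∈ X.layerTwo hQ) : e * e = X.d e := by
  have hne : ∃ y, X.α y ≠ y := by obtain ⟨x, hx⟩ := hdeep; exact ⟨_, hx⟩
  obtain ⟨c, hc⟩ := X.map_form_sq hQ (X.layerTwo hQ) X.ψ (fun x => X.θ (x * x)) (fun x hx => X.two_ρ hQ hx)
    (fun x hx y hy => (X.ψ_add hQ hx hy).2) (fun x hx => X.ψ_ρ hx) (fun a => X.ψ_surj hQ hne a)
    (fun x hx y hy => by
      show X.θ (x * y * (x * y)) = _
      rw [show x * y * (x * y) = x * x * (y * y) by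
        rw [mul_assoc, ← mul_assoc y, X.two_comm hQ hy hx]; group,
        X.θ_add _ _ (X.two_sq_fixed hQ hx) (X.two_sq_fixed hQ hy)])
    (fun x hx => by
      show X.θ (X.ρ x * X.ρ x) = _
      rw [← map_mul, X.θ_ρ _ (X.two_sq_fixed hQ hx), X.κ_sq])
    (fun x hx h => by
      show X.θ (x * x) = 0
      rw [X.sq_one _ (X.ψ_eq_zero hx h), X.θ_one])
  obtain ⟨x₀, h2, h1⟩ := X.exists_three hQ hdeep 1
  have hdd : X.d (X.d x₀) = X.d x₀ * X.d x₀ := by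
    rw [X.d_d, X.inv_fixed (X.two_sq_fixed hQ h2)]
  have hc1 : c = 1 := by
    have := hc _ h2
    rw [h1, one_pow, mul_one, ← hdd, ← X.ψ_sq, h1, one_pow] at this
    exact this.symm
  refine X.θ_inj (X.two_sq_fixed hQ he) he ?_
  rw [hc e he, hc1, one_mul, X.ψ_sq]

theorem two_inverted (hdeep : ∃ x, X.α (X.d x) ≠ X.d x) {e : Q} (he : e ∈ X.layerTwo hQ) : X.α e = e⁻¹ := by
  have h4 : e * e * (e * e) = 1 := X.sq_one _ (X.two_sq_fixed hQ he)
  rw [X.α_eq, ← X.two_sq hQ hdeep he, eq_inv_iff_mul_eq_one]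
  rw [← h4]; group

/-- The third layer. -/
def layerThree : Subgroup Q where
  carrier := {x | X.d x ∈ X.layerTwo hQ}
  mul_mem' := fun {a b} (ha : X.d a ∈ X.layerTwo hQ) (hb : X.d b ∈ X.layerTwo hQ) => by
    show X.d (a * b) ∈ X.layerTwo hQ
    rw [X.d_mul]
    refine Subgroup.mul_mem _ ?_ hb
    have h : b⁻¹ * X.d a * b = X.d a * ⁅(X.d a)⁻¹, b⁻¹⁆ := by simp only [commutatorElement_def]; group
    rw [h]
    exact Subgroup.mul_mem _ ha (X.fixed_mem_two hQ (X.comm_fixed hQ (Subgroup.inv_mem _ ha) _))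
  one_mem' := by
    show X.d 1 ∈ X.layerTwo hQ
    rw [X.d_eq_one (map_one _)]; exact Subgroup.one_mem _
  inv_mem' := fun {a} (ha : X.d a ∈ X.layerTwo hQ) => by
    show X.d a⁻¹ ∈ X.layerTwo hQ
    have h : X.d a⁻¹ = a * (X.d a)⁻¹ * a⁻¹ := by simp only [Ctx.d, map_inv]; group
    rw [h, show a * (X.d a)⁻¹ * a⁻¹ = (⁅(X.d a)⁻¹, a⁆)⁻¹ * (X.d a)⁻¹ by simp only [commutatorElement_def]; group]
    exact Subgroup.mul_mem _ (Subgroup.inv_mem _ (X.fixed_mem_two hQ (X.comm_fixed hQ (Subgroup.inv_mem _ ha) _)))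
      (Subgroup.inv_mem _ ha)

theorem mem_three {x : Q} : x ∈ X.layerThree hQ ↔ X.d x ∈ X.layerTwo hQ := Iff.rfl

/-- Coordinate on the third layer. -/
noncomputable def w (x : Q) : F := X.ψ (X.d x)

omit hQ in
theorem w_def (x : Q) : X.w x = X.ψ (X.d x) := rfl

theorem three_ρ {x : Q} (hx : x ∈ X.layerThree hQ) : X.ρ x ∈ X.layerThree hQ := by
  rw [mem_three, X.d_ρ]; exact X.two_ρ hQ hx

theorem w_ρ {x : Q} (hx : x ∈ X.layerThree hQ) : X.w (X.ρ x) = X.κ * X.w x := by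
  rw [w, w, X.d_ρ, X.ψ_ρ hx]

theorem two_le_three : X.layerTwo hQ ≤ X.layerThree hQ := fun e he => by
  rw [mem_three]; exact X.fixed_mem_two hQ he

theorem w_add {x y : Q} (hx : x ∈ X.layerThree hQ) (hy : y ∈ X.layerThree hQ) : X.w (x * y) = X.w x + X.w y := by
  have h : y⁻¹ * X.d x * y = X.d x * ⁅(X.d x)⁻¹, y⁻¹⁆ := by simp only [commutatorElement_def]; group
  have hk := X.comm_fixed hQ (e := (X.d x)⁻¹) (Subgroup.inv_mem (X.layerTwo hQ) hx) y⁻¹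
  have h1 := X.ψ_add hQ hx (X.fixed_mem_two hQ hk)
  rw [w, w, w, X.d_mul, h, (X.ψ_add hQ h1.1 hy).2, h1.2, X.ψ_of_fixed hk, add_zero]

theorem w_two {e : Q} (he : e ∈ X.layerTwo hQ) : X.w e = 0 := X.ψ_of_fixed he

theorem mem_two_of_w {x : Q} (hx : x ∈ X.layerThree hQ) (h : X.w x = 0) : x ∈ X.layerTwo hQ :=
  X.ψ_eq_zero hx h

theorem three_comm_fixed {x y : Q} (hx : x ∈ X.layerThree hQ) (hy : y ∈ X.layerThree hQ) :
    X.α ⁅x, y⁆ = ⁅x, y⁆ := by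
  by_cases hne : ∃ z, X.α z ≠ z
  · obtain ⟨hN, Y, hp, -, hYα, -, -, -⟩ := X.exists_quot hQ hne
    have hmem : ∀ z ∈ X.layerThree hQ, (z : Q ⧸ X.fix) ∈ Y.layerTwo hp := by
      intro z hz
      rw [mem_two, Ctx.d, hYα, ← QuotientGroup.mk_inv, ← QuotientGroup.mk_mul, hYα, eq_comm, QuotientGroup.eq]
      exact hz
    show ⁅x, y⁆ ∈ X.fix
    rw [← QuotientGroup.eq_one_iff]
    show (QuotientGroup.mk' X.fix) ⁅x, y⁆ = 1
    rw [map_commutatorElement, commutatorElement_eq_one_iff_mul_comm]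
    exact Y.two_comm hp (hmem x hx) (hmem y hy)
  · push Not at hne
    exact hne _

theorem three_sq_mem {x : Q} (hx : x ∈ X.layerThree hQ) : x * x ∈ X.layerTwo hQ := by
  rw [mem_two, X.d_mul, show x⁻¹ * X.d x * x * X.d x = ⁅x⁻¹, X.d x⁆ * (X.d x * X.d x) by
    simp only [commutatorElement_def]; group]
  have hk := X.comm_fixed hQ hx x⁻¹
  rw [← X.comm_symm hk] at *
  rw [map_mul, hk, X.two_sq_fixed hQ hx]

theorem exists_three_data (hdeep : ∃ x, X.α (X.d x) ≠ X.d x) :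
    ((∀ x ∈ X.layerThree hQ, ∀ y ∈ X.layerThree hQ, x * y = y * x) ∧
      (∀ x ∈ X.layerThree hQ, X.ψ (x * x) = X.w x)) ∨
    ((∀ x ∈ X.layerThree hQ, X.α (x * x) = x * x) ∧
      (∀ e ∈ X.layerTwo hQ, ∀ x ∈ X.layerThree hQ, X.om e x = X.ψ e * X.w x)) := by
  have hne : ∃ y, X.α y ≠ y := by obtain ⟨x, hx⟩ := hdeep; exact ⟨_, hx⟩
  have hws : ∀ a, ∃ x ∈ X.layerThree hQ, X.w x = a := fun a => X.exists_three hQ hdeep a
  have hcen : ∀ {z : Q}, X.α z = z → ∀ y, z * y = y * z := fun hz y =>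
    (Subgroup.mem_center_iff.1 (X.central hQ hz) y).symm
  obtain ⟨c, hc⟩ := X.pair_form hQ (X.layerTwo hQ) (X.layerThree hQ) X.ψ X.w (fun x hx => X.two_ρ hQ hx)
    (fun x hx => X.three_ρ hQ hx) (fun x hx y hy => (X.ψ_add hQ hx hy).2) (fun x hx y hy => X.w_add hQ hx hy)
    (fun x hx => X.ψ_ρ hx) (fun x hx => X.w_ρ hQ hx) (fun a => X.ψ_surj hQ hne a) hws
    (fun x hx y _ => X.comm_fixed hQ hx y)
    (fun x hx h y _ => X.om_of_comm (hcen (X.ψ_eq_zero hx h) y))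
    (fun y hy h x hx => X.om_of_comm (X.two_comm hQ hx (X.mem_two_of_w hQ hy h)))
  obtain ⟨μ, hμ⟩ := X.map_form_one hQ (X.layerThree hQ) X.w (fun x => X.ψ (x * x)) (fun x hx => X.three_ρ hQ hx)
    (fun x hx y hy => X.w_add hQ hx hy) (fun x hx => X.w_ρ hQ hx) hws
    (fun x hx y hy => by
      have hk := X.three_comm_fixed hQ hy hx
      show X.ψ (x * y * (x * y)) = _
      rw [show x * y * (x * y) = x * (⁅y, x⁆ * x) * y * y by simp only [commutatorElement_def]; group,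
        hcen hk x, ← mul_assoc x x, mul_assoc (x * x * ⁅y, x⁆), mul_assoc (x * x), hcen hk (y * y),
        ← mul_assoc (x * x)]
      have h1 := X.ψ_add hQ (X.three_sq_mem hQ hx) (X.three_sq_mem hQ hy)
      rw [(X.ψ_add hQ h1.1 (X.fixed_mem_two hQ hk)).2, h1.2, X.ψ_of_fixed hk, add_zero])
    (fun x hx => by
      show X.ψ (X.ρ x * X.ρ x) = _
      rw [← map_mul, X.ψ_ρ (X.three_sq_mem hQ hx)])
    (fun x hx h => X.ψ_of_fixed (X.two_sq_fixed hQ (X.mem_two_of_w hQ hx h)))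
  obtain ⟨x₁, hx₁, hw₁⟩ := hws 1
  have e1 : X.ψ (x₁ * x₁) = μ := by rw [hμ x₁ hx₁, hw₁, mul_one]
  have hrel : μ ^ 2 = 1 + c := by
    set e := X.d x₁ with he
    have he2 : e ∈ X.layerTwo hQ := hx₁
    have hs := X.three_sq_mem hQ hx₁
    have h1 : (x₁ * e) * (x₁ * e) = (x₁ * x₁)⁻¹ := by
      rw [← X.two_inverted hQ hdeep hs, map_mul, X.α_eq x₁]
    have hk := X.comm_fixed hQ (e := e) he2 x₁
    have h2 : x₁ * x₁ * (x₁ * x₁) * ⁅e, x₁⁆ * (e * e) = 1 := by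
      have h3 : (x₁ * e) * (x₁ * e) = x₁ * x₁ * ⁅e, x₁⁆ * (e * e) := by
        rw [show (x₁ * e) * (x₁ * e) = x₁ * (⁅e, x₁⁆ * x₁) * (e * e) by simp only [commutatorElement_def]; group,
          hcen hk x₁, ← mul_assoc x₁]
      rw [mul_assoc (x₁ * x₁), mul_assoc (x₁ * x₁), ← h3, h1, mul_inv_cancel]
    have hf1 := X.two_sq_fixed hQ hs
    have hf2 := X.two_sq_fixed hQ he2
    have h4 := congrArg X.θ h2
    rw [X.θ_add _ _ (by rw [map_mul, hf1, hk]) hf2, X.θ_add _ _ hf1 hk, X.two_sq hQ hdeep hs,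
      X.two_sq hQ hdeep he2, ← X.ψ_sq, ← X.ψ_sq, e1, X.θ_one] at h4
    rw [show X.θ ⁅e, x₁⁆ = X.om e x₁ from rfl, hc e he2 x₁ hx₁, show X.ψ e = 1 from hw₁, hw₁] at h4
    linear_combination h4 - (1 + c) * CharTwo.two_eq_zero (R := F)
  have hcμ : c * μ = 0 := by
    have := hc _ (X.three_sq_mem hQ hx₁) x₁ hx₁
    rwa [X.om_of_comm (mul_assoc x₁ x₁ x₁), e1, hw₁, mul_one, eq_comm] at this
  rcases eq_or_ne μ 0 with hμ0 | hμ0
  · right
    have hc1 : c = 1 := by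
      rw [hμ0, zero_pow two_ne_zero] at hrel
      exact (CharTwo.add_eq_zero.1 hrel.symm).symm
    refine ⟨fun x hx => X.ψ_eq_zero (X.three_sq_mem hQ hx) (by rw [hμ x hx, hμ0, zero_mul]), fun e he x hx => ?_⟩
    rw [hc e he x hx, hc1, one_mul]
  · left
    have hc0 : c = 0 := (mul_eq_zero.1 hcμ).resolve_right hμ0
    have hμ1 : μ = 1 := by
      apply frobenius_inj F 2
      rw [frobenius_def, frobenius_def, hrel, hc0, add_zero, one_pow]
    refine ⟨?_, fun x hx => by rw [hμ x hx, hμ1, one_mul]⟩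
    refine X.comm_of_coord hQ (X.layerThree hQ) X.w (fun x hx => X.three_ρ hQ hx) (fun x hx y hy => X.w_add hQ hx hy)
      (fun x hx => X.w_ρ hQ hx) hws (fun x hx y hy => X.three_comm_fixed hQ hx hy) ?_
    intro x hx h y hy
    rw [hc x (X.mem_two_of_w hQ hx h) y hy, hc0, zero_mul]

end CfsgLib.AlphaRho.Ctx
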