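import Cfsg.Agent.AlphaRho.Levels

/-!
Noncommutative groups stop at the third layer and are given by a quadratic form.
-/

set_option autoImplicit false
set_option linter.style.haveILetI false
set_option linter.unusedSectionVars false

namespace CfsgLib.AlphaRho.Ctx

open scoped commutatorElement

universe u v

variable {Q : Type u} [Group Q] [Finite Q] {F : Type v} [Field F] [Finite F] [CharP F 2]

omit [Finite Q] [Finite F] [CharP F 2] in
theorem exists_gen_ne_one (X : Ctx Q F) : X.ζ ≠ 1 ∨ Nat.card F ≤ 2 := by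
  classical
  by_cases h : X.ζ = 1
  · right
    have hfin : Finite F := Nat.finite_of_card_ne_zero (by have := X.big; omega)
    have := Fintype.ofFinite F
    rw [Nat.card_eq_fintype_card]
    refine le_trans (Finset.card_le_card (s := Finset.univ) (t := {0, 1}) fun k _ => ?_) Finset.card_le_two
    rcases eq_or_ne k 0 with rfl | hk
    · simp
    · obtain ⟨i, rfl⟩ := X.gen k hk
      simp [h]
  · exact Or.inl h

theorem three_abelian_of_deeper (X : Ctx Q F) (hQ : IsPGroup 2 Q) (hdeep : ∃ x, X.α (X.d x) ≠ X.d x)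
    {y : Q} (hy : X.d y ∈ X.layerThree hQ) (hy' : y ∉ X.layerThree hQ) :
    (∀ x ∈ X.layerThree hQ, ∀ y ∈ X.layerThree hQ, x * y = y * x) ∧
      (∀ x ∈ X.layerThree hQ, X.ψ (x * x) = X.w x) := by
  rcases X.exists_three_data hQ hdeep with h | ⟨h, -⟩
  · exact h
  exfalso
  refine hy' ((X.mem_three hQ).2 ((X.mem_two hQ).2 ?_))
  rw [X.d_d, map_inv, h _ hy]

theorem all_three_aux : ∀ (N : ℕ) (Q : Type u) [Group Q] [Finite Q], Nat.card Q = N → ∀ (X : Ctx Q F)
    (hQ : IsPGroup 2 Q), (∃ x y : Q, x * y ≠ y * x) → ∀ x, x ∈ X.layerThree hQ := by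
  intro N
  induction N using Nat.strong_induction_on with
  | _ N IH =>
  intro Q _ _ hN X hQ hnc
  classical
  by_contra hcon
  push Not at hcon
  obtain ⟨y₀, hy₀⟩ := hcon
  have hdeep : ∃ x, X.α (X.d x) ≠ X.d x := ⟨X.d y₀, hy₀⟩
  have hne : ∃ y, X.α y ≠ y := by obtain ⟨x, hx⟩ := hdeep; exact ⟨_, hx⟩
  obtain ⟨hNm, Y, hp, hlt, hYα, hYρ, hYθ, hYζ⟩ := X.exists_quot hQ hne
  have hd : ∀ z : Q, Y.d z = (X.d z : Q) := fun z => by
    rw [Ctx.d, hYα, ← QuotientGroup.mk_inv, ← QuotientGroup.mk_mul]; rfl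
  have hmem2 : ∀ z : Q, Y.α z = (z : Q ⧸ X.fix) ↔ z ∈ X.layerTwo hQ := fun z => by
    rw [hYα, eq_comm, QuotientGroup.eq]; rfl
  have hmem3 : ∀ z : Q, (z : Q ⧸ X.fix) ∈ Y.layerTwo hp ↔ z ∈ X.layerThree hQ := fun z => by
    rw [mem_two, hd, hmem2, mem_three]
  have hYdeep : ∃ q, Y.α (Y.d q) ≠ Y.d q :=
    ⟨(y₀ : Q ⧸ X.fix), fun h => hy₀ ((hmem3 y₀).1 h)⟩
  have hψ : ∀ z : Q, Y.ψ z = X.w z := fun z => by rw [Ctx.ψ, hd, hYθ]; rfl
  obtain ⟨q, hq, hq1⟩ := Y.exists_three hp hYdeep 1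
  obtain ⟨y₁, rfl⟩ := QuotientGroup.mk_surjective q
  rw [hd, hmem3] at hq
  rw [hd, hψ] at hq1
  have hy₁ : y₁ ∉ X.layerThree hQ := fun h => one_ne_zero (hq1.symm.trans (X.w_two hQ h))
  obtain ⟨hAab, hAμ⟩ := X.three_abelian_of_deeper hQ hdeep hq hy₁
  by_cases hab : ∃ x y : Q ⧸ X.fix, x * y ≠ y * x
  · have hall := IH _ (hN ▸ hlt) (Q ⧸ X.fix) rfl Y hp hab
    rcases Y.exists_three_data hp hYdeep with ⟨hcomm, -⟩ | ⟨hYsq, hYom⟩
    · obtain ⟨x, y, hxy⟩ := hab
      exact hxy (hcomm x (hall x) y (hall y))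
    have hsq : ∀ z : Q, z * z ∈ X.layerTwo hQ := fun z => by
      have := hYsq (z : Q ⧸ X.fix) (hall _)
      rwa [← QuotientGroup.mk_mul, hmem2] at this
    have hYcomm : ∀ e ∈ X.layerThree hQ, ∀ z : Q, ⁅z, e⁆ ∈ X.layerTwo hQ ∧
        X.θ (X.d ⁅z, e⁆) = Y.ψ (e : Q ⧸ X.fix) * Y.w (z : Q ⧸ X.fix) := by
      intro e he z
      have hmk : ((⁅z, e⁆ : Q) : Q ⧸ X.fix) = ⁅(z : Q ⧸ X.fix), (e : Q ⧸ X.fix)⁆ :=
        map_commutatorElement (QuotientGroup.mk' X.fix) z e
      have hf := Y.comm_fixed hp ((hmem3 e).2 he) (z : Q ⧸ X.fix)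
      refine ⟨(hmem2 _).1 (by rw [hmk, Y.comm_symm hf]; exact hf), ?_⟩
      rw [← hYθ, hmk, ← hYom _ ((hmem3 e).2 he) _ (hall _), Y.comm_symm hf]
      rfl
    -- a member of the second layer acts through its defect on everything outside
    have key : ∀ z : Q, Y.w (z : Q ⧸ X.fix) ≠ 0 → ∀ t ∈ X.layerTwo hQ, X.om z t = X.θ (X.d t) := by
      intro z hz t ht
      obtain ⟨qe, hqe, hqe'⟩ := Y.ψ_surj hp ⟨(y₀ : Q ⧸ X.fix), fun h => hy₀
        (X.two_le_three hQ ((hmem2 y₀).1 h))⟩ (X.θ (X.d t) / Y.w (z : Q ⧸ X.fix))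
      obtain ⟨e, rfl⟩ := QuotientGroup.mk_surjective qe
      have he : e ∈ X.layerThree hQ := (hmem3 e).1 hqe
      obtain ⟨hs2, hsθ⟩ := hYcomm e he z
      rw [hqe', div_mul_cancel₀ _ hz] at hsθ
      set s := ⁅z, e⁆ with hs
      have hsf := X.comm_fixed hQ hs2 z
      have h1 : ⁅z, s⁆ * (s * s) = 1 := by
        have h2 : z * z * e = e * (z * z) := hAab _ (X.two_le_three hQ (hsq z)) _ he
        have h3 : ⁅z, s⁆ * (s * s) * e = z * z * e * (z * z)⁻¹ := by
          simp only [hs, commutatorElement_def]; group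
        rw [h2, mul_inv_cancel_right] at h3
        exact mul_eq_right.1 h3
      have hzs : X.α ⁅z, s⁆ = ⁅z, s⁆ := by rw [X.comm_symm hsf]; exact hsf
      have h4 : X.om z s = X.θ (X.d t) := by
        have := congrArg X.θ h1
        rw [X.θ_add _ _ hzs (X.two_sq_fixed hQ hs2), X.two_sq hQ hdeep hs2, X.θ_one, hsθ] at this
        exact CharTwo.add_eq_zero.1 this
      -- `t` and `s` differ by a fixed point
      have hd' : X.d t = X.d s := X.θ_inj ht hs2 hsθ.symm
      have hfx : X.α (s⁻¹ * t) = s⁻¹ * t := by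
        refine X.fixed_of_d ?_
        have := X.d_mul_fixed hQ hs2 (s⁻¹ * t)
        rwa [mul_inv_cancel_left, hd', left_eq_mul] at this
      have hcz : z * (s⁻¹ * t) = s⁻¹ * t * z := Subgroup.mem_center_iff.1 (X.central hQ hfx) z
      calc X.om z t = X.om z (s * (s⁻¹ * t)) := by rw [mul_inv_cancel_left]
        _ = X.θ (X.d t) := by
          rw [(X.om_right hQ hzs (by rw [commutatorElement_eq_one_iff_mul_comm.2 hcz, map_one])).2,
            X.om_of_comm hcz, add_zero, h4]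
    obtain ⟨t, ht, htψ⟩ := X.ψ_surj hQ hne 1
    have hws : ∀ a, ∃ z : Q, Y.w (z : Q ⧸ X.fix) = a := fun a => by
      obtain ⟨r, -, hr⟩ := Y.exists_three hp hYdeep a
      obtain ⟨z, rfl⟩ := QuotientGroup.mk_surjective r
      exact ⟨z, hr⟩
    obtain ⟨z₁, hz₁⟩ := hws 1
    obtain ⟨z₂, hz₂⟩ := hws X.ζ
    have hζ1 : X.ζ ≠ 1 := (X.exists_gen_ne_one).resolve_right (by have := X.big; omega)
    have hζ0 : X.ζ ≠ 0 := by
      intro h0
      have h01 : ∀ k : F, k ≠ 0 → k = 1 := fun k hk => by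
        obtain ⟨i, rfl⟩ := X.gen k hk
        rcases i with _ | i
        · exact pow_zero _
        · exact absurd (by rw [h0, zero_pow (Nat.succ_ne_zero i)]) hk
      have := Fintype.ofFinite F
      have hle := (Finset.card_le_card (s := (Finset.univ : Finset F)) (t := {0, 1}) fun k _ => by
        rcases eq_or_ne k 0 with rfl | hk
        · simp
        · simp [h01 k hk]).trans Finset.card_le_two
      rw [Finset.card_univ, ← Nat.card_eq_fintype_card] at hle
      have := X.big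
      omega
    have hsum : Y.w ((z₁ * z₂ : Q) : Q ⧸ X.fix) = 1 + X.ζ := by
      rw [QuotientGroup.mk_mul, Y.w_add hp (hall _) (hall _), hz₁, hz₂]
    have e1 := key z₁ (by rw [hz₁]; exact one_ne_zero) t ht
    have e2 := key z₂ (by rw [hz₂]; exact hζ0) t ht
    have e3 := key (z₁ * z₂) (by rw [hsum]; exact fun h => hζ1 (CharTwo.add_eq_zero.1 h).symm) t ht
    have hf : ∀ z : Q, X.α ⁅z, t⁆ = ⁅z, t⁆ := fun z => by
      rw [X.comm_symm (X.comm_fixed hQ ht z)]; exact X.comm_fixed hQ ht z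
    rw [(X.om_left hQ (hf z₁) (hf z₂)).2, e1, e2, CharTwo.add_self_eq_zero, ← X.ψ_sq, htψ, one_pow] at e3
    exact zero_ne_one e3
  · push Not at hab
    have hcf : ∀ x y : Q, X.α ⁅x, y⁆ = ⁅x, y⁆ := fun x y => by
      show ⁅x, y⁆ ∈ X.fix
      rw [← QuotientGroup.eq_one_iff]
      show (QuotientGroup.mk' X.fix) ⁅x, y⁆ = 1
      rw [map_commutatorElement, commutatorElement_eq_one_iff_mul_comm]
      exact hab _ _
    have hcq : ∀ x y : Q ⧸ X.fix, Commute x y := hab
    have hK : ∀ x : Q, X.α (x * x) = x * x → x ∈ X.layerTwo hQ := by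
      intro x hx
      set e := X.d x with he
      have hk := hcf e x
      have h1 : (x * e) * (x * e) = x * x := by rw [← X.α_eq x, ← map_mul, hx]
      have h2 : e * e = ⁅e, x⁆⁻¹ := by
        apply eq_inv_of_mul_eq_one_right
        have h3 : x * e * (x * e) = x * x * (⁅e, x⁆ * (e * e)) := by
          rw [show (x * e) * (x * e) = x * (⁅e, x⁆ * x) * (e * e) by simp only [commutatorElement_def]; group,
            ← Subgroup.mem_center_iff.1 (X.central hQ hk) x]
          group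
        rw [h1, eq_comm, mul_eq_left] at h3
        exact h3
      have he2 : e ∈ X.layerTwo hQ := by
        rw [mem_two, he, X.d_d, ← he, h2, inv_inv, hk]
      have hw : X.w x = 0 := by
        rw [← hAμ x he2, X.ψ_of_fixed hx]
      exact X.mem_two_of_w hQ he2 hw
    -- the exponent
    have hex : ∃ m : ℕ, ∀ x : Q, x ^ 2 ^ m ∈ X.fix := by
      obtain ⟨m, hm⟩ := (IsPGroup.iff_card (p := 2)).1 hQ
      exact ⟨m, fun x => by rw [← hm, pow_card_eq_one']; exact Subgroup.one_mem _⟩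
    have hm0 : Nat.find hex ≠ 0 := fun h => by
      obtain ⟨x, hx⟩ := hne
      exact hx (by have := Nat.find_spec hex x; rwa [h, pow_zero, pow_one] at this)
    obtain ⟨m, hm⟩ := Nat.exists_eq_succ_of_ne_zero hm0
    have hm1 : ∀ x : Q, x ^ 2 ^ (m + 1) ∈ X.fix := fun x => by
      have := Nat.find_spec hex x; rwa [hm] at this
    have hP : ∀ x : Q, x ^ 2 ^ m ∈ X.layerTwo hQ := fun x => hK _ (by
      show x ^ 2 ^ m * x ^ 2 ^ m ∈ X.fix
      rw [← pow_add, ← two_mul, ← pow_succ']; exact hm1 x)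
    let v : Q → F := fun x => X.ψ (x ^ 2 ^ m)
    have hvadd : ∀ x y, v (x * y) = v x + v y := by
      intro x y
      have hmk : ((((x * y) ^ 2 ^ m : Q)) : Q ⧸ X.fix) = ((x ^ 2 ^ m * y ^ 2 ^ m : Q) : Q ⧸ X.fix) := by
        rw [QuotientGroup.mk_pow, QuotientGroup.mk_mul, QuotientGroup.mk_mul, QuotientGroup.mk_pow,
          QuotientGroup.mk_pow, (hcq _ _).mul_pow]
      show X.ψ _ = X.ψ _ + X.ψ _
      rw [← (X.ψ_add hQ (hP x) (hP y)).2, Ctx.ψ, Ctx.ψ, ← hYθ, hmk, hYθ]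
    have hvρ : ∀ x, v (X.ρ x) = X.κ * v x := fun x => by
      show X.ψ _ = X.κ * X.ψ _
      rw [← map_pow, X.ψ_ρ (hP x)]
    have hvit : ∀ (i : ℕ) x, v ((⇑X.ρ)^[i] x) = X.κ ^ i * v x := by
      intro i
      induction i with
      | zero => intro x; simp
      | succ i ih => intro x; rw [Function.iterate_succ_apply', hvρ, ih, pow_succ, ← mul_assoc, mul_comm X.κ]
    obtain ⟨x₀, hx₀⟩ : ∃ x, v x ≠ 0 := by
      by_contra h
      push Not at h
      have : Nat.find hex ≤ m := Nat.find_le fun x => X.ψ_eq_zero (hP x) (h x)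
      omega
    have hv1 : v 1 = 0 := by
      have := hvadd 1 1
      rwa [mul_one, left_eq_add] at this
    have hvs : ∀ a, ∃ x, v x = a := by
      intro a
      rcases eq_or_ne a 0 with rfl | ha
      · exact ⟨1, hv1⟩
      obtain ⟨i, hi⟩ := X.κ_gen (a / v x₀) (div_ne_zero ha hx₀)
      exact ⟨(⇑X.ρ)^[i] x₀, by rw [hvit, hi, div_mul_cancel₀ _ hx₀]⟩
    -- squares fill the kernel of `v`
    letI : CommGroup (Q ⧸ X.fix) := { QuotientGroup.Quotient.group X.fix with mul_comm := hab }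
    let sq : Q ⧸ X.fix →* Q ⧸ X.fix := powMonoidHom 2
    let vq : Q ⧸ X.fix →* Multiplicative F :=
      QuotientGroup.lift X.fix (MonoidHom.mk' (fun x => Multiplicative.ofAdd (v x)) fun x y => by
        rw [hvadd]; rfl) fun c hc => by
        show Multiplicative.ofAdd (v c) = 1
        rw [show v c = 0 from X.ψ_of_fixed (X.fix.pow_mem hc _)]
        rfl
    have hle : sq.range ≤ vq.ker := by
      rintro _ ⟨q, rfl⟩
      obtain ⟨x, rfl⟩ := QuotientGroup.mk_surjective q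
      show Multiplicative.ofAdd (v (x ^ 2)) = 1
      rw [pow_two, hvadd, CharTwo.add_self_eq_zero]; rfl
    have hvq : vq.range = ⊤ := MonoidHom.range_eq_top.2 fun a => by
      obtain ⟨x, hx⟩ := hvs a.toAdd
      exact ⟨(x : Q ⧸ X.fix), by show Multiplicative.ofAdd (v x) = a; rw [hx]; rfl⟩
    have hker : Nat.card sq.ker ≤ Nat.card (Multiplicative F) := by
      refine Nat.card_le_card_of_injective (fun q : sq.ker => Multiplicative.ofAdd (Y.θ q)) ?_
      have hfixq : ∀ q ∈ sq.ker, Y.α q = q := by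
        intro q hq
        obtain ⟨x, rfl⟩ := QuotientGroup.mk_surjective q
        refine (hmem2 x).2 (hK x ?_)
        show x * x ∈ X.fix
        rw [← QuotientGroup.eq_one_iff, QuotientGroup.mk_mul, ← pow_two]
        exact hq
      intro q r h
      exact Subtype.ext (Y.θ_inj (hfixq _ q.2) (hfixq _ r.2) (Multiplicative.ofAdd.injective h))
    have heq : sq.range = vq.ker := by
      refine Subgroup.eq_of_le_of_card_ge hle ?_
      have h1 := Subgroup.card_eq_card_quotient_mul_card_subgroup vq.ker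
      rw [Nat.card_congr (QuotientGroup.quotientKerEquivRange vq).toEquiv, hvq, Subgroup.card_top] at h1
      have h2 := Subgroup.card_eq_card_quotient_mul_card_subgroup sq.ker
      rw [Nat.card_congr (QuotientGroup.quotientKerEquivRange sq).toEquiv] at h2
      have : 0 < Nat.card (Multiplicative F) := Nat.card_pos
      nlinarith
    have hsqc : ∀ y z : Q, X.om (y ^ 2) z = 0 := fun y z => by
      rw [pow_two, (X.om_left hQ (hcf y z) (hcf y z)).2, CharTwo.add_self_eq_zero]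
    have hcomm := X.comm_of_coord hQ ⊤ v (fun x _ => Subgroup.mem_top _) (fun x _ y _ => hvadd x y)
      (fun x _ => hvρ x) (fun a => let ⟨x, hx⟩ := hvs a; ⟨x, Subgroup.mem_top _, hx⟩) (fun x _ y _ => hcf x y)
      (fun x _ h z _ => by
        have hx : (x : Q ⧸ X.fix) ∈ vq.ker := by
          show Multiplicative.ofAdd (v x) = 1
          rw [h]; rfl
        rw [← heq] at hx
        obtain ⟨qy, hqy⟩ := hx
        obtain ⟨y, rfl⟩ := QuotientGroup.mk_surjective qy
        have hxc : X.α ((y ^ 2)⁻¹ * x) = (y ^ 2)⁻¹ * x := (QuotientGroup.eq).1 (hqy : ((y ^ 2 : Q) : Q ⧸ X.fix) = x)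
        have hcz : (y ^ 2)⁻¹ * x * z = z * ((y ^ 2)⁻¹ * x) := (Subgroup.mem_center_iff.1 (X.central hQ hxc) z).symm
        rw [← mul_inv_cancel_left (y ^ 2) x,
          (X.om_left hQ (hcf _ z) (hcf _ z)).2, hsqc, X.om_of_comm hcz, add_zero])
    obtain ⟨x, y, hxy⟩ := hnc
    exact hxy (hcomm x (Subgroup.mem_top _) y (Subgroup.mem_top _))

/-- A noncommutative group in this situation is described by a quadratic form. -/
theorem exists_quad (X : Ctx Q F) (hQ : IsPGroup 2 Q) (hnc : ∃ x y : Q, x * y ≠ y * x) :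
    ∃ (u w : Q → F) (η : F), (∀ x y, u (x * y) = u x + u y) ∧ (∀ x y, w (x * y) = w x + w y) ∧
      (∀ a b, ∃ x, u x = a ∧ w x = b) ∧ (∀ x, X.α x = x ↔ u x = 0 ∧ w x = 0) ∧
      (∀ x, X.α (x * x) = x * x ∧ X.θ (x * x) = u x ^ 2 + u x * w x + η * w x ^ 2) := by
  classical
  have hall : ∀ x, x ∈ X.layerThree hQ := all_three_aux _ Q rfl X hQ hnc
  have hdeep : ∃ x, X.α (X.d x) ≠ X.d x := by
    by_contra h
    push Not at h
    obtain ⟨x, y, hxy⟩ := hnc
    exact hxy (X.two_comm hQ (h x) (h y))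
  have hne : ∃ y, X.α y ≠ y := by obtain ⟨x, hx⟩ := hdeep; exact ⟨_, hx⟩
  obtain ⟨hsq, hom⟩ : (∀ x, X.α (x * x) = x * x) ∧
      (∀ e ∈ X.layerTwo hQ, ∀ x : Q, X.om e x = X.ψ e * X.w x) := by
    rcases X.exists_three_data hQ hdeep with ⟨h, -⟩ | ⟨h, h'⟩
    · obtain ⟨x, y, hxy⟩ := hnc
      exact absurd (h x (hall x) y (hall y)) hxy
    · exact ⟨fun x => h x (hall x), fun e he x => h' e he x (hall x)⟩
  have hcf : ∀ x y : Q, X.α ⁅x, y⁆ = ⁅x, y⁆ := fun x y => X.three_comm_fixed hQ (hall x) (hall y)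
  have hcz : ∀ {z : Q}, X.α z = z → ∀ y, z * y = y * z := fun hz y =>
    (Subgroup.mem_center_iff.1 (X.central hQ hz) y).symm
  have hwadd : ∀ x y, X.w (x * y) = X.w x + X.w y := fun x y => X.w_add hQ (hall x) (hall y)
  have hwρ : ∀ x, X.w (X.ρ x) = X.κ * X.w x := fun x => X.w_ρ hQ (hall x)
  obtain ⟨x₁, -, hw₁⟩ := X.exists_three hQ hdeep 1
  change X.w x₁ = 1 at hw₁
  let u₀ : Q → F := fun x => X.om x x₁
  have hu₀add : ∀ x y, u₀ (x * y) = u₀ x + u₀ y := fun x y => (X.om_left hQ (hcf x x₁) (hcf y x₁)).2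
  have hu₀ : ∀ e ∈ X.layerTwo hQ, u₀ e = X.ψ e := fun e he => by
    show X.om e x₁ = _
    rw [hom e he, hw₁, mul_one]
  set N := Nat.card F - 1 with hN
  let u : Q → F := fun x => ∑ i ∈ Finset.range N, X.κ ^ (N - i) * u₀ ((⇑X.ρ)^[i] x)
  have hit : ∀ (i : ℕ) (x y : Q), (⇑X.ρ)^[i] (x * y) = (⇑X.ρ)^[i] x * (⇑X.ρ)^[i] y := by
    intro i
    induction i with
    | zero => intros; rfl
    | succ i ih => intro x y; rw [Function.iterate_succ_apply', Function.iterate_succ_apply', Function.iterate_succ_apply', ih, map_mul]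
  have huadd : ∀ x y, u (x * y) = u x + u y := fun x y => by
    show ∑ i ∈ Finset.range N, _ = _
    simp only [hit, hu₀add, mul_add, Finset.sum_add_distrib]
    rfl
  have := Fintype.ofFinite F
  have hκN : X.κ ^ N = 1 := by
    obtain ⟨c, hc, hc1⟩ := X.θ_surj 1
    obtain ⟨-, h2⟩ := X.θ_iterate hc N
    rw [X.period, hc1, mul_one] at h2
    rw [Ctx.κ, ← map_pow, ← h2, map_one]
  have huρ : ∀ x, u (X.ρ x) = X.κ * u x := by
    intro x
    set f : ℕ → F := fun i => X.κ ^ (N - i) * u₀ ((⇑X.ρ)^[i] x) with hf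
    have h1 : ∑ i ∈ Finset.range N, f (i + 1) = ∑ i ∈ Finset.range N, f i := by
      have h2 := Finset.sum_range_succ' f N
      rw [Finset.sum_range_succ] at h2
      have h3 : f N = f 0 := by
        simp only [hf, Nat.sub_self, pow_zero, Nat.sub_zero, hκN]
        rw [show (⇑X.ρ)^[N] x = x from X.period x]
        rfl
      rw [h3] at h2
      exact (add_right_cancel h2).symm
    show ∑ i ∈ Finset.range N, _ = X.κ * ∑ i ∈ Finset.range N, _
    rw [← h1, Finset.mul_sum]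
    refine Finset.sum_congr rfl fun i hi => ?_
    rw [Finset.mem_range] at hi
    simp only [hf]
    rw [← Function.iterate_succ_apply, ← mul_assoc, ← pow_succ', show N - (i + 1) + 1 = N - i by omega]
  have hue : ∀ e ∈ X.layerTwo hQ, u e = X.ψ e := by
    intro e he
    have hit2 : ∀ i : ℕ, (⇑X.ρ)^[i] e ∈ X.layerTwo hQ ∧ X.ψ ((⇑X.ρ)^[i] e) = X.κ ^ i * X.ψ e := by
      intro i
      induction i with
      | zero => exact ⟨he, by simp⟩
      | succ i ih =>
        rw [Function.iterate_succ_apply']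
        exact ⟨X.two_ρ hQ ih.1, by rw [X.ψ_ρ ih.1, ih.2, pow_succ, ← mul_assoc, mul_comm X.κ]⟩
    show ∑ i ∈ Finset.range N, _ = _
    rw [Finset.sum_congr rfl (g := fun _ => X.ψ e) fun i hi => by
      rw [Finset.mem_range] at hi
      rw [hu₀ _ (hit2 i).1, (hit2 i).2, ← mul_assoc, ← pow_add, Nat.sub_add_cancel hi.le, hκN, one_mul],
      Finset.sum_const, Finset.card_range, nsmul_eq_mul]
    have : (N : F) = 1 := by
      rw [hN, Nat.cast_sub (Nat.one_le_iff_ne_zero.2 Nat.card_pos.ne'), Nat.card_eq_fintype_card,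
        FiniteField.cast_card_eq_zero, Nat.cast_one, zero_sub, CharTwo.neg_eq]
    rw [this, one_mul]
  -- the complement
  have hsplit : ∀ x, ∃ e ∈ X.layerTwo hQ, ∃ x', x = e * x' ∧ u x' = 0 ∧ X.w x' = X.w x ∧ X.ψ e = u x := by
    intro x
    obtain ⟨e, he, hψe⟩ := X.ψ_surj hQ hne (u x)
    refine ⟨e, he, e⁻¹ * x, (mul_inv_cancel_left e x).symm, ?_, ?_, hψe⟩
    · have h := huadd e (e⁻¹ * x)
      rwa [mul_inv_cancel_left, hue e he, hψe, left_eq_add] at h
    · have h := hwadd e (e⁻¹ * x)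
      rw [mul_inv_cancel_left, X.w_two hQ he, zero_add] at h
      exact h.symm
  let K₀ : Subgroup Q :=
    { carrier := {x | u x = 0}
      mul_mem' := fun {a b} (ha : u a = 0) (hb : u b = 0) => by show u (a * b) = 0; rw [huadd, ha, hb, add_zero]
      one_mem' := by show u 1 = 0; rw [hue 1 (Subgroup.one_mem _), X.ψ_of_fixed (map_one _)]
      inv_mem' := fun {a} (ha : u a = 0) => by
        show u a⁻¹ = 0
        have h := huadd a⁻¹ a
        rw [inv_mul_cancel, hue 1 (Subgroup.one_mem _), X.ψ_of_fixed (map_one _), ha, add_zero] at h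
        exact h.symm }
  have hK₀ρ : ∀ x ∈ K₀, X.ρ x ∈ K₀ := fun x (hx : u x = 0) => by
    show u (X.ρ x) = 0
    rw [huρ, hx, mul_zero]
  have hK₀s : ∀ a, ∃ x ∈ K₀, X.w x = a := fun a => by
    obtain ⟨x, -, hx⟩ := X.exists_three hQ hdeep a
    obtain ⟨e, -, x', -, h1, h2, -⟩ := hsplit x
    exact ⟨x', h1, h2.trans hx⟩
  have hK₀0 : ∀ x ∈ K₀, X.w x = 0 → X.α x = x := fun x (hx : u x = 0) h => by
    have h2 := X.mem_two_of_w hQ (hall x) h
    rw [hue x h2] at hx
    exact X.ψ_eq_zero h2 hx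
  have hK₀comm := X.comm_of_coord hQ K₀ X.w hK₀ρ (fun x _ y _ => hwadd x y) (fun x _ => hwρ x) hK₀s
    (fun x _ y _ => hcf x y) (fun x hx h y _ => X.om_of_comm (hcz (hK₀0 x hx h) y))
  obtain ⟨η, hη⟩ := X.map_form_sq hQ K₀ X.w (fun x => X.θ (x * x)) hK₀ρ (fun x _ y _ => hwadd x y) (fun x _ => hwρ x) hK₀s
    (fun x hx y hy => by
      show X.θ (x * y * (x * y)) = _
      rw [show x * y * (x * y) = x * x * (y * y) by
        rw [mul_assoc, ← mul_assoc y, hK₀comm y hy x hx]; group, X.θ_add _ _ (hsq x) (hsq y)])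
    (fun x hx => by
      show X.θ (X.ρ x * X.ρ x) = _
      rw [← map_mul, X.θ_ρ _ (hsq x), X.κ_sq])
    (fun x hx h => by
      show X.θ (x * x) = 0
      rw [X.sq_one _ (hK₀0 x hx h), X.θ_one])
  refine ⟨u, X.w, η, huadd, hwadd, fun a b => ?_, fun x => ⟨fun h => ?_, fun h => ?_⟩, fun x => ⟨hsq x, ?_⟩⟩
  · obtain ⟨x, hx, hxb⟩ := hK₀s b
    obtain ⟨e, he, hψe⟩ := X.ψ_surj hQ hne a
    exact ⟨e * x, by rw [huadd, hue e he, hψe, show u x = 0 from hx, add_zero],
      by rw [hwadd, X.w_two hQ he, zero_add, hxb]⟩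
  · exact ⟨by rw [hue x (X.fixed_mem_two hQ h), X.ψ_of_fixed h], X.w_two hQ (X.fixed_mem_two hQ h)⟩
  · exact hK₀0 x h.1 h.2
  · obtain ⟨e, he, x', rfl, hu', hw', hψe⟩ := hsplit x
    have hk := hcf x' e
    rw [show e * x' * (e * x') = e * (⁅x', e⁆ * e) * (x' * x') by simp only [commutatorElement_def]; group,
      hcz hk e, ← mul_assoc e e, X.θ_add _ _ (by rw [map_mul, X.two_sq_fixed hQ he, hk]) (hsq x'),
      X.θ_add _ _ (X.two_sq_fixed hQ he) hk, X.two_sq hQ hdeep he, ← X.ψ_sq, show X.θ (x' * x') = _ from hη x' hu',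
      X.comm_symm (hcf e x'), show X.θ ⁅e, x'⁆ = X.om e x' from rfl, hom e he, hw', ← hψe]

end CfsgLib.AlphaRho.Ctx
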