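import Cfsg.Agent.AlphaRho.Models
import Cfsg.Agent.AlphaRho.Field
import Cfsg.Agent.Recog.SuzukiTypeA
import Cfsg.Agent.Recog.SuzukiOrder
import Cfsg.Agent.OneClass.Main
import Cfsg.Prelude.Def_CaseTheorems

/-!
A 2-group of rank two with an automorphism transitive on its involutions.
-/

set_option autoImplicit false
set_option linter.style.haveILetI false

namespace CfsgLib.AlphaRho.RankTwo

open scoped commutatorElement
open Subgroup CfsgLib.Recog.SuzukiTwo

local notation "F4" => GaloisField 2 2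

universe u

theorem abelian_case {T : Type u} [Group T] [Finite T] (hT : IsPGroup 2 T) (hab : ∀ x y : T, x * y = y * x)
    {α : MulAut T} (hα : Trans α) (h4 : Nat.card {x : T // x * x = 1} = 4) :
    ∃ n : ℕ, 1 ≤ n ∧ Nonempty (T ≃* Multiplicative (ZMod (2 ^ n) × ZMod (2 ^ n))) := by
  classical
  letI : CommGroup T := { (inferInstance : Group T) with mul_comm := hab }
  obtain ⟨m, r, ⟨e⟩⟩ := CfsgLib.OneClass.homocyclic_of_transitive hT fun x y hx hx2 hy hy2 => by
    obtain ⟨i, hi⟩ := hα x y hx (by rwa [← pow_two]) hy (by rwa [← pow_two])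
    exact ⟨α ^ i, hi⟩
  rcases Nat.eq_zero_or_pos m with rfl | hm
  · exfalso
    haveI : Subsingleton (ZMod (2 ^ 0)) := by rw [pow_zero]; infer_instance
    haveI : Subsingleton T := e.toEquiv.injective.subsingleton
    have : Nat.card {x : T // x * x = 1} ≤ 1 := Finite.card_le_one_iff_subsingleton.2 inferInstance
    omega
  let A := Multiplicative (ZMod (2 ^ m))
  have hone : Nat.card {a : A // a * a = 1} = 2 := by
    have h := IsCyclic.card_powMonoidHom_ker A 2
    rw [Nat.card_congr Multiplicative.toAdd, Nat.card_zmod, Nat.gcd_eq_right (dvd_pow_self 2 (by omega))] at h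
    exact (Nat.card_congr (Equiv.subtypeEquivRight fun a => by
      rw [MonoidHom.mem_ker, powMonoidHom_apply, pow_two])).trans h
  have hr : r = 2 := by
    have e1 : {x : T // x * x = 1} ≃ (Fin r → {a : A // a * a = 1}) :=
      (Equiv.subtypeEquiv e.toEquiv (q := fun f : Fin r → A => ∀ i, f i * f i = 1) fun x => by
        show x * x = 1 ↔ ∀ i, e x i * e x i = 1
        rw [← e.map_eq_one_iff, map_mul]
        exact funext_iff).trans
        { toFun := fun f i => ⟨f.1 i, f.2 i⟩
          invFun := fun f => ⟨fun i => (f i).1, fun i => (f i).2⟩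
          left_inv := fun f => rfl
          right_inv := fun f => rfl }
    rw [Nat.card_congr e1, Nat.card_fun, hone, Nat.card_fin] at h4
    exact Nat.pow_right_injective le_rfl (h4.trans (by norm_num : (4 : ℕ) = 2 ^ 2))
  subst hr
  exact ⟨m, hm, ⟨e.trans
    { toFun := fun f => Multiplicative.ofAdd ((f 0).toAdd, (f 1).toAdd)
      invFun := fun p => ![Multiplicative.ofAdd p.toAdd.1, Multiplicative.ofAdd p.toAdd.2]
      left_inv := fun f => by funext i; fin_cases i <;> rfl
      right_inv := fun p => rfl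
      map_mul' := fun f g => rfl }⟩⟩

theorem four_field {F : Type*} [Field F] [Finite F] [CharP F 2] (hF : Nat.card F = 4) {κ : F}
    (hκ0 : κ ≠ 0) (hκ1 : κ ≠ 1) : κ * κ = κ + 1 ∧ ∀ a : F, a = 0 ∨ a = 1 ∨ a = κ ∨ a = κ + 1 := by
  classical
  have := Fintype.ofFinite F
  have h4 : ({0, 1, κ, κ + 1} : Finset F).card = 4 := by
    have h1 : κ + 1 ≠ 0 := fun h => hκ1 (CharTwo.add_eq_zero.1 h)
    simp [hκ0.symm, Ne.symm hκ1, h1.symm, hκ0]
  have hall : ∀ a : F, a = 0 ∨ a = 1 ∨ a = κ ∨ a = κ + 1 := fun a => by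
    have := Finset.eq_univ_of_card _ (h4.trans (by rw [← hF, Nat.card_eq_fintype_card]))
    have ha : a ∈ ({0, 1, κ, κ + 1} : Finset F) := this ▸ Finset.mem_univ a
    simpa using ha
  refine ⟨?_, hall⟩
  rcases hall (κ * κ) with h | h | h | h
  · exact absurd (mul_self_eq_zero.1 h) hκ0
  · exfalso
    refine hκ1 (frobenius_inj F 2 ?_)
    rw [frobenius_def, frobenius_def, one_pow, pow_two, h]
  · exact absurd (mul_left_cancel₀ hκ0 (h.trans (mul_one κ).symm)) hκ1
  · exact h

theorem perm_card_fixed {A : Type*} [Finite A] (f : Equiv.Perm A) {s : ℕ} (hf : f ^ 3 ^ s = 1) :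
    Nat.card {x // f x = x} % 3 = Nat.card A % 3 := by
  classical
  haveI : Fact (Nat.Prime 3) := ⟨Nat.prime_three⟩
  haveI := Fintype.ofFinite A
  let g : Function.End A := fun x => f x
  have hpow : ∀ k : ℕ, ∀ x, (g ^ k : Function.End A) x = (f ^ k) x := by
    intro k
    induction k with
    | zero => intro x; rfl
    | succ k ih => intro x; rw [pow_succ, pow_succ, Equiv.Perm.mul_apply, ← ih]; rfl
  have h := Equiv.Perm.card_fixedPoints_modEq (f := g) (p := 3) (n := s) (funext fun x => by rw [hpow, hf]; rfl)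
  rw [Nat.card_eq_fintype_card, Nat.card_eq_fintype_card]
  refine Eq.trans ?_ h.symm
  congr 1

theorem order_sixty_four {T : Type u} [Group T] [Finite T] (hT : IsPGroup 2 T) {α : MulAut T} (hα : Trans α)
    (hiff : ∀ z : T, z ∈ center T ↔ z * z = 1) (hZ : Nat.card (center T) = 4) (hT64 : Nat.card T = 64)
    (hsq : ∀ x : T, x * x ∈ center T) (hcom : ∀ x y : T, ⁅x, y⁆ ∈ center T) :
    ∃ η : GaloisField 2 2, (∀ r : GaloisField 2 2, r ^ 2 + r ≠ η) ∧
      Nonempty (SqData T (GaloisField 2 2 × GaloisField 2 2) (GaloisField 2 2) fun v =>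
        v.1 ^ 2 + v.1 * v.2 + η * v.2 ^ 2) := by
  classical
  haveI : Fact (Nat.Prime 2) := ⟨Nat.prime_two⟩
  haveI : Fact (Nat.Prime 3) := ⟨Nat.prime_three⟩
  haveI : Finite (MulAut T) := Finite.of_injective _ DFunLike.coe_injective
  have hpresZ : ∀ (β : MulAut T) z, z ∈ center T → β z ∈ center T := fun β z hz => map_center β hz
  have hsingle : ∀ z : T, ∀ hz : z ∈ center T, z ≠ 1 → ∀ w, w ∈ center T → w ≠ 1 → ∃ i : ℕ, (α ^ i) z = w :=
    fun z hz hz1 w hw hw1 => hα z w hz1 ((hiff z).1 hz) hw1 ((hiff w).1 hw)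
  -- the three involutions
  have hZcyc : ∀ z ∈ center T, z ≠ 1 → α z ≠ z ∧ α (α z) ≠ z ∧ α (α (α z)) = z := by
    intro z hz hz1
    have h1 : α z ≠ z := by
      intro h
      have hfix : ∀ i : ℕ, (α ^ i) z = z := by
        intro i
        induction i with
        | zero => rfl
        | succ i ih => rw [pow_succ, MulAut.mul_apply, h, ih]
      have : Nat.card (center T) ≤ 2 := by
        let f : center T → Bool := fun w => decide ((w : T) = 1)
        refine (Nat.card_le_card_of_injective f fun a b hab => ?_).trans (by simp)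
        by_cases ha : (a : T) = 1
        · have hb : (b : T) = 1 := (decide_eq_decide.1 hab).1 ha
          exact Subtype.ext (ha.trans hb.symm)
        · have hb : (b : T) ≠ 1 := fun e => ha ((decide_eq_decide.1 hab).2 e)
          obtain ⟨i, hi⟩ := hsingle z hz hz1 _ a.2 ha
          obtain ⟨j, hj⟩ := hsingle z hz hz1 _ b.2 hb
          exact Subtype.ext (by rw [← hi, ← hj, hfix, hfix])
      omega
    have h2 : α (α z) ≠ z := by
      intro h
      have hfix : ∀ i : ℕ, (α ^ i) z = z ∨ (α ^ i) z = α z := by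
        intro i
        induction i with
        | zero => exact Or.inl rfl
        | succ i ih =>
          rw [pow_succ', MulAut.mul_apply]
          rcases ih with e | e <;> rw [e]
          · exact Or.inr rfl
          · exact Or.inl h
      have : Nat.card (center T) ≤ 3 := by
        let f : Fin 3 → center T := ![⟨1, one_mem _⟩, ⟨z, hz⟩, ⟨α z, hpresZ α _ hz⟩]
        refine (Nat.card_le_card_of_surjective f fun w => ?_).trans (by simp)
        by_cases hw : (w : T) = 1
        · exact ⟨0, Subtype.ext hw.symm⟩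
        · obtain ⟨i, hi⟩ := hsingle z hz hz1 _ w.2 hw
          rcases hfix i with e | e
          · exact ⟨1, Subtype.ext (e.symm.trans hi)⟩
          · exact ⟨2, Subtype.ext (e.symm.trans hi)⟩
      omega
    refine ⟨h1, h2, ?_⟩
    by_contra h3
    have hne : ∀ w, w ≠ 1 → α w ≠ 1 := fun w hw e => hw (α.injective (e.trans (map_one α).symm))
    have h12 : α (α z) ≠ α z := fun e => h1 (α.injective e)
    have h23 : α (α (α z)) ≠ α (α z) := fun e => h12 (α.injective e)
    have h13 : α (α (α z)) ≠ α z := fun e => h2 (α.injective e)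
    let g : Fin 5 → center T := ![⟨1, one_mem _⟩, ⟨z, hz⟩, ⟨α z, hpresZ α _ hz⟩, ⟨α (α z), hpresZ α _ (hpresZ α _ hz)⟩,
      ⟨α (α (α z)), hpresZ α _ (hpresZ α _ (hpresZ α _ hz))⟩]
    have hg : Function.Injective g := by
      intro a b hab
      have hv := congrArg Subtype.val hab
      fin_cases a <;> fin_cases b <;>
        first
          | rfl
          | (exfalso; simp [g, hz1, hne z hz1, hne _ (hne z hz1), hne _ (hne _ (hne z hz1)), h1, h2, h3, h12, h23,
              h13, Ne.symm hz1, Ne.symm (hne z hz1), Ne.symm (hne _ (hne z hz1)),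
              Ne.symm (hne _ (hne _ (hne z hz1))), Ne.symm h1, Ne.symm h2, Ne.symm h3, Ne.symm h12, Ne.symm h23,
              Ne.symm h13] at hv)
    have := Nat.card_le_card_of_injective g hg
    rw [hZ, Nat.card_fin] at this
    omega
  -- an automorphism of order a power of three
  obtain ⟨σ, s, hσs, hσZ⟩ : ∃ (σ : MulAut T) (s : ℕ), σ ^ 3 ^ s = 1 ∧
      ∀ z ∈ center T, z ≠ 1 → σ z ≠ z ∧ σ (σ z) ≠ z ∧ σ (σ (σ z)) = z := by
    set N := orderOf α with hN
    have hN0 : N ≠ 0 := (orderOf_pos α).ne'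
    set r := N / 3 ^ N.factorization 3 with hr
    have hr3 : ¬ 3 ∣ r := Nat.not_dvd_ordCompl Nat.prime_three hN0
    refine ⟨α ^ r, N.factorization 3, ?_, fun z hz hz1 => ?_⟩
    · rw [← pow_mul, mul_comm, hr, Nat.ordProj_mul_ordCompl_eq_self N 3, hN, pow_orderOf_eq_one]
    · obtain ⟨h1, h2, h3⟩ := hZcyc z hz hz1
      have hper : ∀ k : ℕ, (α ^ (3 * k)) z = z := by
        intro k
        induction k with
        | zero => rfl
        | succ k ih =>
          rw [mul_add, pow_add, MulAut.mul_apply, mul_one,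
            show (α ^ 3) z = z by rw [pow_succ', pow_two, MulAut.mul_apply, MulAut.mul_apply]; exact h3, ih]
      have hmod : ∀ j : ℕ, (α ^ j) z = (α ^ (j % 3)) z := by
        intro j
        conv_lhs => rw [← Nat.mod_add_div j 3, pow_add, MulAut.mul_apply, hper]
      have happ : ∀ j : ℕ, ((α ^ r) ^ j) z = (α ^ ((r * j) % 3)) z := fun j => by rw [← pow_mul, hmod]
      have e1 : (α ^ r) z = (α ^ (r % 3)) z := hmod r
      have e2 : (α ^ r) ((α ^ r) z) = (α ^ ((r * 2) % 3)) z := by rw [← MulAut.mul_apply, ← pow_two, happ]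
      have e3 : (α ^ r) ((α ^ r) ((α ^ r) z)) = (α ^ ((r * 3) % 3)) z := by
        simp only [← MulAut.mul_apply]
        rw [show α ^ r * (α ^ r * α ^ r) = (α ^ r) ^ 3 by group, happ]
      rw [e3, e2, e1, Nat.mul_mod_left, pow_zero]
      rcases (show r % 3 = 1 ∨ r % 3 = 2 by omega) with e | e
      · rw [e, show r * 2 % 3 = 2 by omega, pow_one, pow_two, MulAut.mul_apply]
        exact ⟨h1, h2, rfl⟩
      · rw [e, show r * 2 % 3 = 1 by omega, pow_one, pow_two, MulAut.mul_apply]
        exact ⟨h2, h1, rfl⟩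
  -- the coordinate on the centre
  letI : AddCommGroup (Additive (center T)) :=
    { (inferInstance : AddGroup (Additive (center T))) with
      add_comm := fun a b => Additive.toMul.injective (Subtype.ext (mem_center_iff.1 (b.toMul : center T).2 _)) }
  let Tz : Additive (center T) →+ Additive (center T) := MonoidHom.toAdditive
    (MonoidHom.mk' (fun c : center T => (⟨σ c, hpresZ σ c c.2⟩ : center T)) fun a b => Subtype.ext (map_mul σ (a : T) b))
  obtain ⟨θ₀, ζ, hθσ, hgen⟩ := exists_field_coord (A := Additive (center T)) (n := 2) two_ne_zero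
    ((Nat.card_congr Additive.toMul).trans hZ) Tz
    (fun a b h => Subtype.ext (σ.injective (congrArg Subtype.val h)))
    (fun x y hx hy => by
      have hx1 : (x.toMul : T) ≠ 1 := fun e => hx (Subtype.ext e : x.toMul = 1)
      have hy1 : (y.toMul : T) ≠ 1 := fun e => hy (Subtype.ext e : y.toMul = 1)
      obtain ⟨h1, h2, -⟩ := hσZ _ x.toMul.2 hx1
      by_cases e0 : x.toMul = y.toMul
      · exact ⟨0, Additive.toMul.injective e0⟩
      by_cases e1 : σ (x.toMul : T) = y.toMul
      · exact ⟨1, Additive.toMul.injective (Subtype.ext e1)⟩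
      refine ⟨2, Additive.toMul.injective (Subtype.ext (show σ (σ (x.toMul : T)) = y.toMul from ?_))⟩
      by_contra e2
      have hne : ∀ w : T, w ≠ 1 → σ w ≠ 1 := fun w hw e => hw (σ.injective (e.trans (map_one σ).symm))
      have h12 : σ (σ (x.toMul : T)) ≠ σ x.toMul := fun e => h1 (σ.injective e)
      let g : Fin 5 → center T := ![⟨1, one_mem _⟩, x.toMul, ⟨σ x.toMul, hpresZ σ _ x.toMul.2⟩,
        ⟨σ (σ x.toMul), hpresZ σ _ (hpresZ σ _ x.toMul.2)⟩, y.toMul]
      have e0' : (x.toMul : T) ≠ y.toMul := fun e => e0 (Subtype.ext e)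
      have hg : Function.Injective g := by
        intro a b hab
        have hv := congrArg Subtype.val hab
        fin_cases a <;> fin_cases b <;>
          first
            | rfl
            | (exfalso; simp [g, hx1, hy1, hne _ hx1, hne _ (hne _ hx1), h1, h2, h12, e0', e1, e2,
                Ne.symm hx1, Ne.symm hy1, Ne.symm (hne _ hx1), Ne.symm (hne _ (hne _ hx1)), Ne.symm h1, Ne.symm h2,
                Ne.symm h12, Ne.symm e0', Ne.symm e1, Ne.symm e2] at hv)
      have := Nat.card_le_card_of_injective g hg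
      rw [hZ, Nat.card_fin] at this
      omega)
  have hF4 : Nat.card F4 = 4 := by rw [GaloisField.card 2 2 two_ne_zero]; norm_num
  let θ : T → F4 := fun x => if h : x ∈ center T then θ₀ (Additive.ofMul ⟨x, h⟩) else 0
  have hθ : ∀ x (h : x ∈ center T), θ x = θ₀ (Additive.ofMul ⟨x, h⟩) := fun x h => dif_pos h
  have θmul : ∀ x y, x ∈ center T → y ∈ center T → θ (x * y) = θ x + θ y := fun x y hx hy => by
    rw [hθ _ (mul_mem hx hy), hθ x hx, hθ y hy, ← map_add]; rfl
  have θker : ∀ x, x ∈ center T → θ x = 0 → x = 1 := fun x hx h0 => by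
    rw [hθ x hx] at h0
    exact congrArg (fun a : Additive (center T) => ((a.toMul : center T) : T)) (θ₀.injective (h0.trans (map_zero θ₀).symm))
  have θsurj : ∀ t, ∃ z, z ∈ center T ∧ θ z = t := fun t =>
    ⟨_, (θ₀.symm t).toMul.2, by rw [hθ _ (θ₀.symm t).toMul.2]; exact θ₀.apply_symm_apply t⟩
  have θσ : ∀ x, x ∈ center T → θ (σ x) = ζ * θ x := fun x hx => by
    rw [hθ _ (hpresZ σ x hx), hθ x hx, ← hθσ]; rfl
  have θone : θ 1 = 0 := by
    have := θmul 1 1 (one_mem _) (one_mem _)
    rwa [mul_one, left_eq_add] at this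
  -- the quotient
  let V := T ⧸ center T
  have hV : Nat.card V = 16 := by
    have h := Subgroup.card_eq_card_quotient_mul_card_subgroup (center T)
    rw [hT64, hZ] at h
    show Nat.card (T ⧸ center T) = 16
    omega
  letI : CommGroup V :=
    { QuotientGroup.Quotient.group (center T) with
      mul_comm := fun a b => by
        obtain ⟨x, rfl⟩ := QuotientGroup.mk_surjective a
        obtain ⟨y, rfl⟩ := QuotientGroup.mk_surjective b
        show ((x * y : T) : V) = ((y * x : T) : V)
        rw [QuotientGroup.eq]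
        rw [show (x * y)⁻¹ * (y * x) = ⁅y⁻¹, x⁻¹⁆ by simp only [commutatorElement_def]; group]
        exact hcom _ _ }
  have hsqC : ∀ x z, z ∈ center T → (x * z) * (x * z) = x * x := fun x z hz => by
    rw [mul_assoc, ← mul_assoc z, ← mem_center_iff.1 hz x, mul_assoc, (hiff z).1 hz, mul_one]
  let q : V → F4 := fun v => θ (Quotient.out v * Quotient.out v)
  have hq : ∀ x : T, q x = θ (x * x) := fun x => by
    obtain ⟨⟨c, hc⟩, hout⟩ := QuotientGroup.mk_out_eq_mul (center T) x
    show θ (Quotient.out (x : V) * Quotient.out (x : V)) = _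
    rw [hout, hsqC x c hc]
  have hq0 : ∀ v : V, q v = 0 → v = 1 := fun v h => by
    obtain ⟨x, rfl⟩ := QuotientGroup.mk_surjective v
    rw [hq] at h
    exact (QuotientGroup.eq_one_iff x).2 ((hiff x).2 (θker _ (hsq x) h))
  have hmap : (center T).map σ.toMonoidHom = center T := by
    refine Subgroup.eq_of_le_of_card_ge (Subgroup.map_le_iff_le_comap.2 fun c hc => hpresZ σ c hc) ?_
    rw [Subgroup.card_map_of_injective σ.injective]
  let S : V ≃* V := QuotientGroup.congr (center T) (center T) σ hmap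
  have hS : ∀ x : T, S x = ((σ x : T) : V) := fun _ => rfl
  have hqS : ∀ v, q (S v) = ζ * q v := fun v => by
    obtain ⟨x, rfl⟩ := QuotientGroup.mk_surjective v
    rw [hS, hq, hq, ← θσ _ (hsq x), map_mul]
  have hζ0 : ζ ≠ 0 := by
    obtain ⟨z, hz, hz1⟩ := θsurj 1
    intro h0
    have := θσ z hz
    rw [h0, zero_mul] at this
    have h1 := θker _ (hpresZ σ z hz) this
    rw [σ.injective (h1.trans (map_one σ).symm), θone] at hz1
    exact zero_ne_one hz1
  have hζ1 : ζ ≠ 1 := by
    intro h1
    obtain ⟨z, hz, hz1⟩ := θsurj 1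
    have hzne : z ≠ 1 := fun e => zero_ne_one (α := F4) (by rw [← hz1, e, θone])
    refine (hσZ z hz hzne).1 ?_
    have h := θσ z hz
    rw [h1, one_mul] at h
    have h' : σ z * z⁻¹ = 1 := θker _ (mul_mem (hpresZ σ z hz) (inv_mem hz)) (by
      rw [θmul _ _ (hpresZ σ z hz) (inv_mem hz), h, ← θmul _ _ hz (inv_mem hz), mul_inv_cancel, θone])
    exact mul_inv_eq_one.1 h'
  obtain ⟨hζsq, -⟩ := four_field hF4 hζ0 hζ1
  obtain ⟨κ, hκdef⟩ : ∃ k : F4, k = ζ * ζ := ⟨_, rfl⟩
  have hκsq : κ * κ = ζ := by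
    rw [hκdef, hζsq]
    linear_combination hζsq + ((ζ : F4) + 1) * CharTwo.two_eq_zero (R := F4)
  have hκ0 : κ ≠ 0 := hκdef ▸ mul_ne_zero hζ0 hζ0
  have hκ1 : κ ≠ 1 := fun h => hζ1 (by rw [← hκsq, h, mul_one])
  obtain ⟨hκκ, hall⟩ := four_field hF4 hκ0 hκ1
  have hκgen : ∀ k : F4, k ≠ 0 → ∃ i : ℕ, κ ^ i = k := fun k hk => by
    rcases hall k with h | h | h | h
    · exact absurd h hk
    · exact ⟨0, by rw [pow_zero, h]⟩
    · exact ⟨1, by rw [pow_one, h]⟩
    · exact ⟨2, by rw [pow_two, hκκ, h]⟩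
  have hfix : ∀ v, S v = v → v = 1 := fun v hv => hq0 v (by
    have := hqS v
    rw [hv] at this
    by_contra h0
    exact hζ1 (mul_right_cancel₀ h0 (by rw [one_mul, ← this])))
  -- the cube of `S` is trivial
  have hSpow : (S.toEquiv : Equiv.Perm V) ^ 3 ^ s = 1 := by
    ext v
    obtain ⟨x, rfl⟩ := QuotientGroup.mk_surjective v
    have hit : ∀ k : ℕ, ((S.toEquiv : Equiv.Perm V) ^ k) (x : V) = (((σ ^ k) x : T) : V) := by
      intro k
      induction k with
      | zero => rfl
      | succ k ih => rw [pow_succ', pow_succ', Equiv.Perm.mul_apply, ih, MulAut.mul_apply]; exact hS _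
    rw [hit, hσs]; rfl
  let τ : V →* V := (S.toMonoidHom.comp S.toMonoidHom).comp S.toMonoidHom
  have hqτ : ∀ v, q (τ v) = q v := fun v => by
    show q (S (S (S v))) = q v
    rw [hqS, hqS, hqS, ← mul_assoc, ← mul_assoc, hζsq]
    linear_combination (q v) * hζsq + ((ζ : F4) * q v) * CharTwo.two_eq_zero (R := F4)
  have hcube : ∀ v, S (S (S v)) = v := by
    let W : Subgroup V := MonoidHom.eqLocus τ (MonoidHom.id V)
    haveI := Fintype.ofFinite V
    have hτpow : ∀ p : V → Prop, ∀ hp : ∀ v, p (τ v) ↔ p v, 0 < Nat.card {v // p v} → Nat.card {v : V // p v ∧ τ v = v} % 3 = Nat.card {v // p v} % 3 := by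
      intro p hp _
      let f : Equiv.Perm {v // p v} := Equiv.Perm.subtypePerm ((S.toEquiv : Equiv.Perm V) ^ 3) (fun v => by
        rw [pow_succ', pow_two, Equiv.Perm.mul_apply, Equiv.Perm.mul_apply]; exact hp v)
      have hf : ∀ v : {v // p v}, (f v : V) = τ v := fun v => by
        show ((S.toEquiv : Equiv.Perm V) ^ 3) v = _
        rw [pow_succ', pow_two, Equiv.Perm.mul_apply, Equiv.Perm.mul_apply]; rfl
      have hf1 : f ^ 3 ^ s = 1 := by
        rw [Equiv.Perm.subtypePerm_pow]
        ext v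
        show (((S.toEquiv : Equiv.Perm V) ^ 3) ^ 3 ^ s) v = v
        rw [← pow_mul, mul_comm, pow_mul, hSpow, one_pow]; rfl
      refine Eq.trans (congrArg (· % 3) (Nat.card_congr ?_)) (perm_card_fixed f hf1)
      exact
        { toFun := fun v => ⟨⟨v.1, v.2.1⟩, Subtype.ext ((hf _).trans v.2.2)⟩
          invFun := fun v => ⟨v.1.1, v.1.2, (hf v.1).symm.trans (congrArg Subtype.val v.2)⟩
          left_inv := fun v => rfl
          right_inv := fun v => rfl }
    -- the fibres of `q`
    have hW : 7 ≤ Nat.card W := by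
      have hfib : ∀ t t' : F4, t ≠ 0 → t' ≠ 0 → Nat.card {v // q v = t} ≤ Nat.card {v // q v = t'} := by
        intro t t' ht ht'
        obtain ⟨i, hi⟩ := hgen (t' / t) (div_ne_zero ht' ht)
        have hit : ∀ k v, q (((S.toEquiv : Equiv.Perm V) ^ k) v) = ζ ^ k * q v := by
          intro k
          induction k with
          | zero => intro v; simp
          | succ k ih =>
            intro v
            rw [pow_succ', Equiv.Perm.mul_apply, pow_succ', mul_assoc, ← ih]
            exact hqS _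
        exact Nat.card_le_card_of_injective (fun v : {v // q v = t} => (⟨((S.toEquiv : Equiv.Perm V) ^ i) v.1, by
          rw [hit, hi, v.2, div_mul_cancel₀ _ ht]⟩ : {v // q v = t'}))
          fun a b h => Subtype.ext (((S.toEquiv : Equiv.Perm V) ^ i).injective (congrArg Subtype.val h))
      haveI := Fintype.ofFinite F4
      have hsum : ∀ (p : V → Prop), Nat.card {v // p v} = ∑ t : F4, Nat.card {v // p v ∧ q v = t} := by
        intro p
        rw [← Nat.card_congr (Equiv.sigmaFiberEquiv (fun v : {v // p v} => q v.1)), Nat.card_sigma]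
        exact Finset.sum_congr rfl fun t _ => Nat.card_congr
          { toFun := fun v => ⟨v.1.1, v.1.2, v.2⟩, invFun := fun v => ⟨⟨v.1, v.2.1⟩, v.2.2⟩,
            left_inv := fun v => rfl, right_inv := fun v => rfl }
      have huniv : (Finset.univ : Finset F4) = {0, 1, κ, κ + 1} := by
        refine (Finset.eq_univ_iff_forall.2 fun a => ?_).symm
        simpa using hall a
      have hκ1' : κ + 1 ≠ 0 := fun h => hκ1 (CharTwo.add_eq_zero.1 h)
      have hex : ∀ g : F4 → ℕ, ∑ t, g t = g 0 + g 1 + g κ + g (κ + 1) := fun g => by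
        rw [huniv, Finset.sum_insert (by simp [hκ0.symm, hκ1'.symm]), Finset.sum_insert (by simp [Ne.symm hκ1, hκ0]),
          Finset.sum_insert (by simp), Finset.sum_singleton]
        ring
      have hone : ∀ P : V → Prop, P 1 → Nat.card {v // P v ∧ q v = 0} = 1 := fun P hP => by
        rw [Nat.card_eq_one_iff_exists]
        have hq1 : q (1 : V) = 0 := by rw [show (1 : V) = ((1 : T) : V) from rfl, hq, mul_one, θone]
        exact ⟨⟨1, hP, hq1⟩, fun v => Subtype.ext (hq0 _ v.2.2)⟩
      have h16 := hsum (fun _ => True)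
      rw [hex, hone _ trivial] at h16
      rw [Nat.card_congr (Equiv.subtypeUnivEquiv (fun _ => trivial)), hV] at h16
      have hT' : ∀ t, Nat.card {v : V // True ∧ q v = t} = Nat.card {v // q v = t} := fun t =>
        Nat.card_congr (Equiv.subtypeEquivRight fun v => ⟨And.right, fun h => ⟨trivial, h⟩⟩)
      rw [hT', hT', hT'] at h16
      have a1 := hfib 1 κ one_ne_zero hκ0
      have a2 := hfib κ 1 hκ0 one_ne_zero
      have a3 := hfib 1 (κ + 1) one_ne_zero hκ1'
      have a4 := hfib (κ + 1) 1 hκ1' one_ne_zero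
      have hWsum := hsum (fun v => v ∈ W)
      rw [hex, hone _ (one_mem W)] at hWsum
      have h5 : ∀ t, Nat.card {v // q v = t} = 5 → 2 ≤ Nat.card {v : V // v ∈ W ∧ q v = t} := by
        intro t ht
        have h := hτpow (fun v => q v = t) (fun v => by rw [hqτ]) (by rw [ht]; norm_num)
        rw [ht] at h
        rw [Nat.card_congr (Equiv.subtypeEquivRight fun v => show (v ∈ W ∧ q v = t) ↔ (q v = t ∧ τ v = v) from and_comm)]
        omega
      have b1 := h5 1 (by omega)
      have b2 := h5 κ (by omega)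
      have b3 := h5 (κ + 1) (by omega)
      show 7 ≤ Nat.card {v // v ∈ W}
      omega
    have hWdvd : Nat.card W ∣ 16 := hV ▸ W.card_subgroup_dvd_card
    have hW3 : Nat.card W % 3 = 1 := by
      let fS : Equiv.Perm W := Equiv.Perm.subtypePerm (S.toEquiv : Equiv.Perm V) (fun v => by
        show τ (S v) = S v ↔ τ v = v
        exact ⟨fun h => S.injective h, fun h => congrArg S h⟩)
      have hf1 : fS ^ 3 ^ s = 1 := by
        rw [Equiv.Perm.subtypePerm_pow]
        ext v
        show (((S.toEquiv : Equiv.Perm V)) ^ 3 ^ s) v = v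
        rw [hSpow]; rfl
      have h1 : Nat.card {x : W // fS x = x} = 1 := Nat.card_eq_one_iff_exists.2
        ⟨⟨1, Subtype.ext (map_one S)⟩, fun v => Subtype.ext (Subtype.ext (hfix _ (congrArg Subtype.val v.2)))⟩
      rw [← perm_card_fixed fS hf1, h1]
    have hW16 : Nat.card W = 16 := by
      have hle := Nat.le_of_dvd (by norm_num) hWdvd
      have : Nat.card W ∈ Nat.divisors 16 := Nat.mem_divisors.2 ⟨hWdvd, by norm_num⟩
      rw [show Nat.divisors 16 = {1, 2, 4, 8, 16} from by decide] at this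
      simp only [Finset.mem_insert, Finset.mem_singleton] at this
      omega
    have hWtop : W = ⊤ := Subgroup.eq_top_of_card_eq W (hW16.trans hV.symm)
    intro v
    have : v ∈ W := hWtop ▸ mem_top v
    exact this
  have hSS : ∀ v, S (S v) = S v * v := by
    intro v
    have hvv : ∀ w : V, w * w = 1 := fun w => by
      obtain ⟨x, rfl⟩ := QuotientGroup.mk_surjective w
      exact (QuotientGroup.eq_one_iff _).2 (hsq x)
    have h1 : S (S v) * S v * v = 1 := hfix _ (by
      rw [map_mul, map_mul, hcube]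
      ac_rfl)
    rw [mul_assoc] at h1
    have h2 := hvv (S v * v)
    exact mul_right_cancel (h1.trans h2.symm)
  -- scalar multiplication
  let act : F4 → V → V := fun a v => if a = 0 then 1 else if a = 1 then v else if a = κ then S v else S v * v
  have hκ1' : κ + 1 ≠ 0 := fun h => hκ1 (CharTwo.add_eq_zero.1 h)
  have hκκ1 : κ + 1 ≠ κ := fun h => one_ne_zero (add_eq_left.1 h)
  have hκ11 : κ + 1 ≠ 1 := fun h => hκ0 (add_eq_right.1 h)
  have act0 : ∀ v, act 0 v = 1 := fun v => by simp [act]
  have act1 : ∀ v, act 1 v = v := fun v => by simp [act]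
  have actκ : ∀ v, act κ v = S v := fun v => by simp [act, hκ0, hκ1]
  have actκ1 : ∀ v, act (κ + 1) v = S v * v := fun v => by simp [act, hκ1', hκκ1, hκ11]
  have hvv : ∀ w : V, w * w = 1 := fun w => by
    obtain ⟨x, rfl⟩ := QuotientGroup.mk_surjective w
    exact (QuotientGroup.eq_one_iff _).2 (hsq x)
  have hvv' : ∀ w u : V, w * (w * u) = u := fun w u => by rw [← mul_assoc, hvv, one_mul]
  have act_add : ∀ a b v, act (a + b) v = act a v * act b v := by
    intro a b v
    have t1 : (1 : F4) + 1 = 0 := CharTwo.add_self_eq_zero 1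
    have t2 : κ + κ = 0 := CharTwo.add_self_eq_zero κ
    have t3 : κ + 1 + (κ + 1) = 0 := CharTwo.add_self_eq_zero _
    have t4 : 1 + κ = κ + 1 := add_comm _ _
    have t5 : κ + (κ + 1) = 1 := by rw [← add_assoc, t2, zero_add]
    have t6 : κ + 1 + κ = 1 := by rw [add_comm, t5]
    have t7 : 1 + (κ + 1) = κ := by rw [add_comm κ 1, ← add_assoc, t1, zero_add]
    have t8 : κ + 1 + 1 = κ := by rw [add_comm, t7]
    rcases hall a with rfl | rfl | rfl | rfl <;> rcases hall b with rfl | rfl | rfl | rfl <;>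
      simp only [zero_add, add_zero, t1, t2, t3, t4, t5, t6, t7, t8, act0, act1, actκ, actκ1, one_mul, mul_one, hvv,
        mul_comm, mul_left_comm, hvv']
  have actS : ∀ a v, act (κ * a) v = S (act a v) := by
    intro a v
    have t9 : κ * (κ + 1) = 1 := by rw [mul_add, mul_one, hκκ, add_right_comm, CharTwo.add_self_eq_zero, zero_add]
    rcases hall a with rfl | rfl | rfl | rfl
    · rw [mul_zero, act0, map_one]
    · rw [mul_one, act1, actκ]
    · rw [hκκ, actκ, actκ1, hSS]
    · rw [t9, act1, actκ1, map_mul, hSS, mul_assoc, mul_comm v (S v), hvv', ]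
  have hqact : ∀ a v, q (act a v) = a ^ 2 * q v := by
    intro a v
    have h1 : ∀ i : ℕ, q (act (κ ^ i) v) = (κ ^ i) ^ 2 * q v := by
      intro i
      induction i with
      | zero => rw [pow_zero, act1, one_pow, one_mul]
      | succ i ih => rw [pow_succ', actS, hqS, ih, ← hκsq]; ring
    rcases eq_or_ne a 0 with rfl | ha
    · rw [act0, show (1 : V) = ((1 : T) : V) from rfl, hq, mul_one, θone]; ring
    · obtain ⟨i, rfl⟩ := hκgen a ha
      exact h1 i
  -- a basis
  obtain ⟨e₁, he₁⟩ : ∃ v, q v = 1 := by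
    obtain ⟨v, hv⟩ : ∃ v : V, v ≠ 1 := by
      haveI : Nontrivial V := Finite.one_lt_card_iff_nontrivial.1 (by rw [hV]; norm_num)
      exact exists_ne 1
    have hqv : q v ≠ 0 := fun h => hv (hq0 v h)
    obtain ⟨r, hr⟩ := (Finite.injective_iff_surjective.1 (frobenius_inj F4 2)) (q v)⁻¹
    exact ⟨act r v, by rw [hqact, ← frobenius_def, hr, inv_mul_cancel₀ hqv]⟩
  obtain ⟨e₂, he₂⟩ : ∃ v, ∀ a, act a e₁ ≠ v := by
    by_contra h
    push Not at h
    have := Nat.card_le_card_of_surjective (fun a => act a e₁) h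
    rw [hV, hF4] at this
    omega
  let L : F4 × F4 → V := fun p => act p.1 e₁ * act p.2 e₂
  have hLadd : ∀ p p', L (p + p') = L p * L p' := fun p p' => by
    show act (p.1 + p'.1) e₁ * act (p.2 + p'.2) e₂ = _
    rw [act_add, act_add, mul_mul_mul_comm]
  have hL : Function.Bijective L := by
    refine Function.Injective.bijective_of_nat_card_le ?_ (by rw [hV, Nat.card_prod, hF4])
    intro p p' h
    have h0 : L (p + p') = 1 := by rw [hLadd, h, hvv]
    have he1ne : e₁ ≠ 1 := fun e => one_ne_zero (α := F4) (by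
      rw [← he₁, e, show (1 : V) = ((1 : T) : V) from rfl, hq, mul_one, θone])
    set d := p + p' with hd
    have hd2 : d.2 = 0 := by
      by_contra hd2
      refine he₂ (d.1 / d.2) ?_
      obtain ⟨i, hi⟩ := hκgen d.2⁻¹ (inv_ne_zero hd2)
      have hit : ∀ (k : ℕ) a v, act (κ ^ k * a) v = (⇑S)^[k] (act a v) := by
        intro k
        induction k with
        | zero => intro a v; rw [pow_zero, one_mul]; rfl
        | succ k ih => intro a v; rw [pow_succ', mul_assoc, actS, ih, Function.iterate_succ_apply']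
      have hmul : ∀ (k : ℕ) (x y : V), (⇑S)^[k] (x * y) = (⇑S)^[k] x * (⇑S)^[k] y := by
        intro k
        induction k with
        | zero => intros; rfl
        | succ k ih => intro x y; rw [Function.iterate_succ_apply', Function.iterate_succ_apply', Function.iterate_succ_apply', ih, map_mul]
      have h' := congrArg ((⇑S)^[i]) (h0 : act d.1 e₁ * act d.2 e₂ = 1)
      rw [hmul, ← hit, ← hit, hi, inv_mul_cancel₀ hd2, act1, show (⇑S)^[i] (1 : V) = 1 from Function.iterate_fixed (map_one S) i] at h'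
      rw [div_eq_inv_mul]
      exact mul_right_cancel (h'.trans (hvv e₂).symm)
    have hd1 : d.1 = 0 := by
      by_contra hd1
      change act d.1 e₁ * act d.2 e₂ = 1 at h0
      rw [hd2, act0, mul_one] at h0
      have := hqact d.1 e₁
      rw [h0, show (1 : V) = ((1 : T) : V) from rfl, hq, mul_one, θone, he₁, mul_one] at this
      exact hd1 (eq_zero_of_pow_eq_zero this.symm)
    have : p + p' = 0 := Prod.ext hd1 hd2
    exact Prod.ext (CharTwo.add_eq_zero.1 (congrArg Prod.fst this)) (CharTwo.add_eq_zero.1 (congrArg Prod.snd this))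
  let B : V → V → F4 := fun u v => q (u * v) + q u + q v
  have hBθ : ∀ x y : T, B x y = θ ⁅y, x⁆ := fun x y => by
    show q ((x * y : T) : V) + q x + q y = _
    rw [hq, hq, hq, show x * y * (x * y) = x * (⁅y, x⁆ * x) * y * y by simp only [commutatorElement_def]; group,
      ← mem_center_iff.1 (hcom y x) x, ← mul_assoc x x, mul_assoc (x * x * ⁅y, x⁆),
      θmul _ _ (mul_mem (hsq x) (hcom y x)) (hsq y), θmul _ _ (hsq x) (hcom y x)]
    linear_combination (θ (x * x) + θ (y * y)) * CharTwo.two_eq_zero (R := F4)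
  have hBl : ∀ u u' v, B (u * u') v = B u v + B u' v := by
    intro u u' v
    obtain ⟨x, rfl⟩ := QuotientGroup.mk_surjective u
    obtain ⟨x', rfl⟩ := QuotientGroup.mk_surjective u'
    obtain ⟨y, rfl⟩ := QuotientGroup.mk_surjective v
    show B ((x * x' : T) : V) y = _
    rw [hBθ, hBθ, hBθ, ← θmul _ _ (hcom y x) (hcom y x'),
      show ⁅y, x * x'⁆ = ⁅y, x⁆ * x * ⁅y, x'⁆ * x⁻¹ by simp only [commutatorElement_def]; group,
      mul_assoc ⁅y, x⁆ x, mem_center_iff.1 (hcom y x') x, mul_assoc, mul_assoc, mul_inv_cancel, mul_one]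
  have hBs : ∀ u v, B u v = B v u := fun u v => by simp only [B, mul_comm u v]; ring
  let β : F4 → F4 → F4 := fun a b => B (act a e₁) (act b e₂)
  have hβ := bi_weight hκgen β
    (fun a a' b => by show B _ _ = _; rw [act_add, hBl])
    (fun a b b' => by show B _ _ = _; rw [act_add, hBs, hBl, hBs, hBs (act b' e₂)])
    (fun a b => by
      show B _ _ = _
      rw [actS, actS]
      show q (S _ * S _) + q (S _) + q (S _) = κ ^ 2 * B _ _
      rw [← map_mul, hqS, hqS, hqS, pow_two, hκsq]
      show _ = ζ * (q _ + q _ + q _)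
      ring)
  set η₀ := q e₂ with hη₀
  set c := β 1 1 with hc
  have hQ : ∀ a b, q (L (a, b)) = a ^ 2 + c * (a * b) + η₀ * b ^ 2 := by
    intro a b
    have h := hβ a b
    change q (L (a, b)) + q (act a e₁) + q (act b e₂) = _ at h
    rw [hqact, hqact, he₁, mul_one] at h
    linear_combination h - (a ^ 2 + η₀ * b ^ 2) * CharTwo.two_eq_zero (R := F4)
  have hLinj0 : ∀ p, q (L p) = 0 → p = 0 := fun p h => hL.1 ((hq0 _ h).trans (by
    show _ = act 0 e₁ * act 0 e₂
    rw [act0, act0, mul_one]))
  have hc0 : c ≠ 0 := by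
    intro hc0
    obtain ⟨r, hr⟩ := (Finite.injective_iff_surjective.1 (frobenius_inj F4 2)) η₀
    rw [frobenius_def] at hr
    have := hLinj0 (r, 1) (by rw [hQ, hc0, hr]; linear_combination η₀ * CharTwo.two_eq_zero (R := F4))
    exact one_ne_zero (congrArg Prod.snd this)
  refine ⟨η₀ / c ^ 2, fun r hr => ?_, ?_⟩
  · have := hLinj0 (r, c⁻¹) (by
      rw [hQ]
      have h' : η₀ * c⁻¹ ^ 2 = η₀ / c ^ 2 := by rw [inv_pow, div_eq_mul_inv]
      rw [h', ← hr, mul_comm r, ← mul_assoc, mul_inv_cancel₀ hc0, one_mul]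
      linear_combination (r ^ 2 + r) * CharTwo.two_eq_zero (R := F4))
    exact inv_ne_zero hc0 (congrArg Prod.snd this)
  let E : F4 × F4 ≃ V := Equiv.ofBijective L hL
  have hEadd : ∀ u v, E.symm (u * v) = E.symm u + E.symm v := fun u v => by
    rw [Equiv.symm_apply_eq]
    show _ = L _
    rw [hLadd]
    exact (congrArg₂ (· * ·) (E.apply_symm_apply u) (E.apply_symm_apply v)).symm
  have hker : ∀ x : T, ((E.symm (x : V)).1, c * (E.symm (x : V)).2) = (0 : F4 × F4) ↔ x ∈ center T := by
    intro x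
    rw [← QuotientGroup.eq_one_iff]
    constructor
    · intro h
      obtain ⟨h1, h2⟩ := Prod.mk.injEq .. ▸ h
      have h2' : (E.symm (x : V)).2 = 0 := (mul_eq_zero.1 h2).resolve_left hc0
      have : E.symm (x : V) = 0 := Prod.ext h1 h2'
      rw [Equiv.symm_apply_eq] at this
      rw [this]
      show act 0 e₁ * act 0 e₂ = 1
      rw [act0, act0, mul_one]
    · intro h
      have h0 := hEadd 1 1
      rw [mul_one, left_eq_add] at h0
      rw [show (x : V) = 1 from h, h0]
      exact Prod.ext rfl (mul_zero c)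
  exact ⟨
    { π := fun x => ((E.symm (x : V)).1, c * (E.symm (x : V)).2)
      θ := θ
      π_mul := fun x y => by
        rw [QuotientGroup.mk_mul, hEadd]
        exact Prod.ext rfl (mul_add c _ _)
      π_surj := fun v => by
        obtain ⟨x, hx⟩ := QuotientGroup.mk_surjective (E (v.1, c⁻¹ * v.2))
        exact ⟨x, by rw [show (x : V) = E _ from hx, E.symm_apply_apply]; exact Prod.ext rfl (mul_inv_cancel_left₀ hc0 _)⟩
      central := fun z hz x => (mem_center_iff.1 ((hker z).1 hz) x).symm
      θ_mul := fun z z' hz hz' => θmul z z' ((hker z).1 hz) ((hker z').1 hz')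
      θ_inj := fun z hz h => θker z ((hker z).1 hz) h
      θ_surj := fun t => by
        obtain ⟨z, hz, hzt⟩ := θsurj t
        exact ⟨z, (hker z).2 hz, hzt⟩
      sq_π := fun x => (hker _).2 (hsq x)
      sq_θ := fun x => by
        show θ (x * x) = (E.symm (x : V)).1 ^ 2 + (E.symm (x : V)).1 * (c * (E.symm (x : V)).2) +
          η₀ / c ^ 2 * (c * (E.symm (x : V)).2) ^ 2
        have h := hQ (E.symm (x : V)).1 (E.symm (x : V)).2
        rw [show L ((E.symm (x : V)).1, (E.symm (x : V)).2) = (x : V) from E.apply_symm_apply _, hq] at h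
        rw [h]
        field_simp }⟩

theorem classify {T : Type u} [Group T] [Finite T] (hT : IsPGroup 2 T) (h2 : Cfsg.PRankLE 2 2 T) (h1 : ¬ Cfsg.PRankLE 2 1 T)
    (φ : MulAut T) (htrans : ∀ s t : T, orderOf s = 2 → orderOf t = 2 → ∃ k : ℕ, (φ ^ k) s = t)
    {F : Type*} [Field F] [Fintype F] (hF : Fintype.card F = 16) (P : Sylow 2 (Cfsg.PSU 3 F 4)) :
    (∃ n : ℕ, 1 ≤ n ∧ Nonempty (T ≃* Multiplicative (ZMod (2 ^ n) × ZMod (2 ^ n)))) ∨
      Nonempty (T ≃* (P : Subgroup (Cfsg.PSU 3 F 4))) := by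
  classical
  haveI : Fact (Nat.Prime 2) := ⟨Nat.prime_two⟩
  have hord : ∀ x : T, x ≠ 1 → x * x = 1 → orderOf x = 2 := fun x hx hx2 =>
    orderOf_eq_prime (by rw [pow_two]; exact hx2) hx
  have hα : Trans φ := fun x y hx hx2 hy hy2 => htrans x y (hord x hx hx2) (hord y hy hy2)
  let Ω : Subgroup T := invol hT hα
  have hΩ : ∀ x : T, x ∈ Ω ↔ x * x = 1 := fun x => mem_invol hT hα
  have hΩ4 : Nat.card {x : T // x * x = 1} = 4 := by
    have hle := h2 Ω ⟨⟨fun a b => Subtype.ext
      ((mem_center_iff.1 (invol_central hT hα ((hΩ _).1 a.2)) b).symm)⟩⟩ fun a ha => by rw [pow_two]; exact (hΩ a).1 ha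
    rw [Cfsg.PRankLE] at h1
    push Not at h1
    obtain ⟨A, -, hA2, hA⟩ := h1
    have hAle : Nat.card A ≤ Nat.card Ω := Subgroup.card_le_of_le fun a ha => (hΩ a).2 (by rw [← pow_two]; exact hA2 a ha)
    obtain ⟨k, hk⟩ := (hT.to_subgroup Ω).exists_card_eq
    rw [Nat.card_congr (Equiv.subtypeEquivRight (fun x => (hΩ x).symm))]
    show Nat.card Ω = 4
    rw [hk] at hle hAle ⊢
    rcases k with _ | _ | _ | k
    · omega
    · norm_num at hA hAle ⊢; omega
    · norm_num
    · exfalso
      have : 2 ^ 3 ≤ 2 ^ (k + 3) := Nat.pow_le_pow_right (by norm_num) (by omega)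
      norm_num at hle this
      omega
  by_cases hab : ∀ x y : T, x * y = y * x
  · exact Or.inl (abelian_case hT hab hα hΩ4)
  right
  push Not at hab
  obtain ⟨a, b, hne⟩ := hab
  have hne' : ∃ x y : T, x * y ≠ y * x := ⟨a, b, hne⟩
  have hiff : ∀ z : T, z ∈ center T ↔ z * z = 1 := fun z => center_iff hT hα hne'
  have hZ : Nat.card (center T) = 4 := (Nat.card_congr (Equiv.subtypeEquivRight hiff)).trans hΩ4
  have hh2 : ∃ x y : T, x ≠ y ∧ x ≠ 1 ∧ x * x = 1 ∧ y ≠ 1 ∧ y * y = 1 := by
    by_contra h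
    push Not at h
    have : Nat.card {x : T // x * x = 1} ≤ 2 := by
      let f : {x : T // x * x = 1} → Bool := fun x => decide ((x : T) = 1)
      refine (Nat.card_le_card_of_injective f fun x y hxy => ?_).trans (by simp)
      by_cases hx : (x : T) = 1
      · exact Subtype.ext (hx.trans ((decide_eq_decide.1 hxy).1 hx).symm)
      · have hy : (y : T) ≠ 1 := fun e => hx ((decide_eq_decide.1 hxy).2 e)
        by_contra hxy'
        exact h x y (fun e => hxy' (Subtype.ext e)) hx x.2 hy y.2
    omega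
  rcases card_eq hT hα hne' hh2 with hc | hc
  · exfalso
    obtain ⟨K, iK, iK', φ', hK, hφ1, hodd, -⟩ := CfsgLib.Recog.SuzukiTypeA.exists_typeA hT hα hne' hc
    rw [hZ] at hK
    haveI : CharP K 2 := by
      obtain ⟨r, hr⟩ := CharP.exists K
      haveI := hr
      obtain ⟨⟨k, hk⟩, hrp, hcc⟩ := FiniteField.card K r
      rw [hK, PNat.mk_coe] at hcc
      have hr2 : r = 2 := by
        have hd : r ∣ 2 ^ 2 := (show (4 : ℕ) = 2 ^ 2 by norm_num) ▸ hcc ▸ dvd_pow_self r hk.ne'
        exact (Nat.prime_dvd_prime_iff_eq hrp Nat.prime_two).1 (hrp.dvd_of_dvd_pow hd)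
      exact hr2 ▸ hr
    letI : Algebra (ZMod 2) K := ZMod.algebra K 2
    have hcard2 : Nat.card (K ≃+* K) = 2 := by
      rw [CfsgLib.Recog.FieldSpan.card_aut]
      have h := Module.natCard_eq_pow_finrank (K := ZMod 2) (V := K)
      rw [Nat.card_zmod, Nat.card_eq_fintype_card, hK] at h
      exact (Nat.pow_right_injective le_rfl ((show (2 : ℕ) ^ 2 = 4 by norm_num).trans h)).symm
    have hd : orderOf φ' ∣ 2 := hcard2 ▸ orderOf_dvd_natCard φ'
    rcases (Nat.dvd_prime Nat.prime_two).1 hd with e | e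
    · exact hφ1 (orderOf_eq_one_iff.1 e)
    · rw [e] at hodd; exact absurd hodd (by decide)
  rw [hZ] at hc
  have hT64 : Nat.card T = 64 := by rw [hc]; norm_num
  obtain ⟨η, hη, ⟨D⟩⟩ := order_sixty_four hT hα hiff hZ hT64 (sq_central hT hα hne' hh2) (comm_central hT hα hne' hh2)
  have hE : Nat.card F = (2 ^ 2) ^ 2 := by rw [Nat.card_eq_fintype_card, hF]; norm_num
  obtain ⟨D'⟩ := psu_sqData_of (n := 2) two_ne_zero η hη hE P
  exact D.nonempty_equiv D'

end CfsgLib.AlphaRho.RankTwo
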