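import Mathlib.LinearAlgebra.Basis.VectorSpace
import Mathlib.GroupTheory.QuotientGroup.Basic
import Mathlib.Algebra.Module.ZMod
import Mathlib.Algebra.Field.ZMod
import Mathlib.GroupTheory.Exponent

/-!
A central extension of an elementary abelian 2-group by another is determined by the squaring map.
-/

set_option autoImplicit false
set_option linter.style.haveILetI false

namespace CfsgLib.AlphaRho

open scoped commutatorElement

/-- A group with coordinates on a central quotient and on the kernel, with given squaring map. -/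
structure SqData (A : Type*) [Group A] (V W : Type*) [AddCommGroup V] [AddCommGroup W] (q : V → W) where
  /-- the projection -/
  π : A → V
  /-- the coordinate on the kernel -/
  θ : A → W
  π_mul : ∀ x y, π (x * y) = π x + π y
  π_surj : ∀ v, ∃ x, π x = v
  central : ∀ z, π z = 0 → ∀ x, z * x = x * z
  θ_mul : ∀ z z', π z = 0 → π z' = 0 → θ (z * z') = θ z + θ z'
  θ_inj : ∀ z, π z = 0 → θ z = 0 → z = 1
  θ_surj : ∀ t, ∃ z, π z = 0 ∧ θ z = t
  sq_π : ∀ x, π (x * x) = 0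
  sq_θ : ∀ x, θ (x * x) = q (π x)

theorem SqData.nonempty_equiv {A B V W : Type*} [Group A] [Group B] [Finite A] [Finite B] [AddCommGroup V]
    [AddCommGroup W] {q : V → W} (a : SqData A V W q) (b : SqData B V W q) : Nonempty (A ≃* B) := by
  classical
  have aπ1 : a.π 1 = 0 := by have := a.π_mul 1 1; rwa [mul_one, left_eq_add] at this
  have bπ1 : b.π 1 = 0 := by have := b.π_mul 1 1; rwa [mul_one, left_eq_add] at this
  have aθ1 : a.θ 1 = 0 := by have := a.θ_mul 1 1 aπ1 aπ1; rwa [mul_one, left_eq_add] at this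
  have bθ1 : b.θ 1 = 0 := by have := b.θ_mul 1 1 bπ1 bπ1; rwa [mul_one, left_eq_add] at this
  have aπi : ∀ x, a.π x⁻¹ = -a.π x := fun x => by
    have := a.π_mul x⁻¹ x
    rw [inv_mul_cancel, aπ1] at this
    exact eq_neg_of_add_eq_zero_left this.symm
  have bπi : ∀ x, b.π x⁻¹ = -b.π x := fun x => by
    have := b.π_mul x⁻¹ x
    rw [inv_mul_cancel, bπ1] at this
    exact eq_neg_of_add_eq_zero_left this.symm
  let H : Subgroup (A × B) :=
    { carrier := {p | a.π p.1 = b.π p.2}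
      mul_mem' := fun {p r} (hp : a.π p.1 = b.π p.2) (hr : a.π r.1 = b.π r.2) => by
        show a.π (p.1 * r.1) = b.π (p.2 * r.2); rw [a.π_mul, b.π_mul, hp, hr]
      one_mem' := by show a.π 1 = b.π 1; rw [aπ1, bπ1]
      inv_mem' := fun {p} (hp : a.π p.1 = b.π p.2) => by
        show a.π p.1⁻¹ = b.π p.2⁻¹; rw [aπi, bπi, hp] }
  let K : Subgroup H :=
    { carrier := {p | a.π p.1.1 = 0 ∧ b.π p.1.2 = 0 ∧ a.θ p.1.1 = b.θ p.1.2}
      mul_mem' := fun {p r} ⟨p1, p2, p3⟩ ⟨r1, r2, r3⟩ => by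
        refine ⟨?_, ?_, ?_⟩
        · show a.π (p.1.1 * r.1.1) = 0; rw [a.π_mul, p1, r1, add_zero]
        · show b.π (p.1.2 * r.1.2) = 0; rw [b.π_mul, p2, r2, add_zero]
        · show a.θ (p.1.1 * r.1.1) = b.θ (p.1.2 * r.1.2); rw [a.θ_mul _ _ p1 r1, b.θ_mul _ _ p2 r2, p3, r3]
      one_mem' := ⟨aπ1, bπ1, aθ1.trans bθ1.symm⟩
      inv_mem' := fun {p} ⟨p1, p2, p3⟩ => by
        have h1 : a.π p.1.1⁻¹ = 0 := by rw [aπi, p1, neg_zero]
        have h2 : b.π p.1.2⁻¹ = 0 := by rw [bπi, p2, neg_zero]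
        refine ⟨h1, h2, ?_⟩
        show a.θ p.1.1⁻¹ = b.θ p.1.2⁻¹
        have e1 := a.θ_mul _ _ p1 h1
        have e2 := b.θ_mul _ _ p2 h2
        rw [mul_inv_cancel, aθ1] at e1
        rw [mul_inv_cancel, bθ1] at e2
        rw [eq_neg_of_add_eq_zero_right e1.symm, eq_neg_of_add_eq_zero_right e2.symm, p3] }
  have hKn : K.Normal := ⟨fun p ⟨p1, p2, p3⟩ g => by
    have e : g * p * g⁻¹ = p := by
      refine Subtype.ext (Prod.ext ?_ ?_)
      · show g.1.1 * p.1.1 * g.1.1⁻¹ = p.1.1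
        rw [← a.central _ p1, mul_inv_cancel_right]
      · show g.1.2 * p.1.2 * g.1.2⁻¹ = p.1.2
        rw [← b.central _ p2, mul_inv_cancel_right]
    rw [e]; exact ⟨p1, p2, p3⟩⟩
  have hsq : ∀ x : H ⧸ K, x * x = 1 := fun x => by
    obtain ⟨p, rfl⟩ := QuotientGroup.mk_surjective x
    rw [← QuotientGroup.mk_mul, QuotientGroup.eq_one_iff]
    refine ⟨a.sq_π _, b.sq_π _, ?_⟩
    show a.θ (p.1.1 * p.1.1) = b.θ (p.1.2 * p.1.2)
    rw [a.sq_θ, b.sq_θ, show a.π p.1.1 = b.π p.1.2 from p.2]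
  letI : CommGroup (H ⧸ K) :=
    { QuotientGroup.Quotient.group K with
      mul_comm := fun x y => by
        have e : ∀ z : H ⧸ K, z⁻¹ = z := fun z => inv_eq_of_mul_eq_one_right (hsq z)
        rw [← e (x * y), mul_inv_rev, e, e] }
  letI : Module (ZMod 2) (Additive (H ⧸ K)) := AddCommGroup.zmodModule fun x => by
    rw [two_nsmul]; exact hsq x.toMul
  let Wc : AddSubgroup (Additive (H ⧸ K)) :=
    { carrier := {m | ∃ (z : A) (hz : a.π z = 0), m = Additive.ofMul ((⟨(z, 1), hz.trans bπ1.symm⟩ : H) : H ⧸ K)}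
      add_mem' := by
        rintro _ _ ⟨z, hz, rfl⟩ ⟨z', hz', rfl⟩
        exact ⟨z * z', by rw [a.π_mul, hz, hz', add_zero], congrArg (fun r : H => Additive.ofMul (r : H ⧸ K))
          (show (⟨(z, 1), _⟩ : H) * ⟨(z', 1), _⟩ = _ from Subtype.ext (Prod.ext rfl (mul_one _)))⟩
      zero_mem' := ⟨1, aπ1, rfl⟩
      neg_mem' := fun {m} hm => by
        have hm2 : -m = m := neg_eq_of_add_eq_zero_right (hsq m.toMul)
        rwa [hm2] }
  haveI : Fact (Nat.Prime 2) := ⟨Nat.prime_two⟩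
  obtain ⟨L', hL'⟩ := Submodule.exists_isCompl (K := ZMod 2) (AddSubgroup.toZModSubmodule 2 Wc)
  let L : Subgroup H :=
    { carrier := {p | Additive.ofMul (p : H ⧸ K) ∈ L'}
      mul_mem' := fun {p r} hp hr => L'.add_mem hp hr
      one_mem' := L'.zero_mem
      inv_mem' := fun {p} hp => L'.neg_mem hp }
  have hKL : ∀ p ∈ K, p ∈ L := fun p hp => by
    show Additive.ofMul (p : H ⧸ K) ∈ L'
    rw [(QuotientGroup.eq_one_iff p).2 hp]
    exact L'.zero_mem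
  have hWL : ∀ z : A, ∀ hz : a.π z = 0, (⟨(z, 1), hz.trans bπ1.symm⟩ : H) ∈ L → z = 1 := by
    intro z hz hL
    have h0 : Additive.ofMul ((⟨(z, 1), hz.trans bπ1.symm⟩ : H) : H ⧸ K) = 0 := by
      have := Submodule.disjoint_def.1 hL'.disjoint _ (show _ ∈ AddSubgroup.toZModSubmodule 2 Wc from ⟨z, hz, rfl⟩) hL
      exact this
    obtain ⟨-, -, h3⟩ := (QuotientGroup.eq_one_iff _).1 h0
    exact a.θ_inj z hz (h3.trans bθ1)
  -- the projections
  let f₁ : L →* A := MonoidHom.mk' (fun p => p.1.1.1) fun _ _ => rfl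
  let f₂ : L →* B := MonoidHom.mk' (fun p => p.1.1.2) fun _ _ => rfl
  have hinj₂ : Function.Injective f₂ := by
    refine (injective_iff_map_eq_one f₂).2 fun p (hp : p.1.1.2 = 1) => ?_
    have hz : a.π p.1.1.1 = 0 := (p.1.2 : a.π p.1.1.1 = b.π p.1.1.2).trans (by rw [hp, bπ1])
    have he : p.1 = (⟨(p.1.1.1, 1), hz.trans bπ1.symm⟩ : H) := Subtype.ext (Prod.ext rfl hp)
    exact Subtype.ext (Subtype.ext (Prod.ext (hWL _ hz (he ▸ p.2)) hp))
  have hinj₁ : Function.Injective f₁ := by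
    refine (injective_iff_map_eq_one f₁).2 fun p (hp : p.1.1.1 = 1) => ?_
    have hy : b.π p.1.1.2 = 0 := (p.1.2 : a.π p.1.1.1 = b.π p.1.1.2).symm.trans (by rw [hp, aπ1])
    obtain ⟨z, hz, hzθ⟩ := a.θ_surj (b.θ p.1.1.2)
    let k : H := ⟨(z, p.1.1.2), hz.trans hy.symm⟩
    have hk : k ∈ L := hKL k ⟨hz, hy, hzθ⟩
    have hz1 : z = 1 := by
      refine hWL z hz ?_
      have e : (⟨(z, 1), hz.trans bπ1.symm⟩ : H) = k * p.1⁻¹ := Subtype.ext (Prod.ext
        (by show z = z * p.1.1.1⁻¹; rw [hp, inv_one, mul_one]) (by show (1 : B) = p.1.1.2 * p.1.1.2⁻¹; rw [mul_inv_cancel]))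
      rw [e]; exact L.mul_mem hk (L.inv_mem p.2)
    rw [hz1, aθ1] at hzθ
    exact Subtype.ext (Subtype.ext (Prod.ext hp (b.θ_inj _ hy hzθ.symm)))
  have hsurj₁ : Function.Surjective f₁ := by
    intro x
    obtain ⟨y, hy⟩ := b.π_surj (a.π x)
    let p : H := ⟨(x, y), hy.symm⟩
    obtain ⟨m, hm, l, hl, hml⟩ := Submodule.mem_sup.1 (show Additive.ofMul (p : H ⧸ K) ∈
      AddSubgroup.toZModSubmodule 2 Wc ⊔ L' by rw [hL'.sup_eq_top]; exact Submodule.mem_top)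
    obtain ⟨z, hz, rfl⟩ := hm
    let zp : H := ⟨(z, 1), hz.trans bπ1.symm⟩
    have hp' : zp⁻¹ * p ∈ L := by
      show Additive.ofMul ((zp⁻¹ * p : H) : H ⧸ K) ∈ L'
      rw [QuotientGroup.mk_mul, QuotientGroup.mk_inv]
      show -Additive.ofMul (zp : H ⧸ K) + Additive.ofMul (p : H ⧸ K) ∈ L'
      rw [← hml, neg_add_cancel_left]
      exact hl
    obtain ⟨y', hy', hyθ⟩ := b.θ_surj (a.θ z)
    let k : H := ⟨(z, y'), hz.trans hy'.symm⟩
    have hk : k ∈ L := hKL k ⟨hz, hy', hyθ.symm⟩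
    exact ⟨⟨k * (zp⁻¹ * p), L.mul_mem hk hp'⟩, mul_inv_cancel_left z x⟩
  have hsurj₂ : Function.Surjective f₂ := by
    intro y
    obtain ⟨x, hx⟩ := a.π_surj (b.π y)
    obtain ⟨⟨p, hp⟩, hpx⟩ := hsurj₁ x
    change p.1.1 = x at hpx
    have hd : b.π (p.1.2⁻¹ * y) = 0 := by
      rw [b.π_mul, bπi, ← hx, ← hpx, show a.π p.1.1 = b.π p.1.2 from p.2, neg_add_cancel]
    obtain ⟨z, hz, hzθ⟩ := a.θ_surj (b.θ (p.1.2⁻¹ * y))
    let k : H := ⟨(z, p.1.2⁻¹ * y), hz.trans hd.symm⟩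
    exact ⟨⟨p * k, L.mul_mem hp (hKL k ⟨hz, hd, hzθ⟩)⟩, mul_inv_cancel_left _ _⟩
  exact ⟨(MulEquiv.ofBijective f₁ ⟨hinj₁, hsurj₁⟩).symm.trans (MulEquiv.ofBijective f₂ ⟨hinj₂, hsurj₂⟩)⟩

end CfsgLib.AlphaRho
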